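import Cfsg.Agent.Known.SpThreeUnip.Pair

/-! # A regular unipotent element of the symplectic group and two of its conjugates -/

set_option autoImplicit false
set_option linter.style.haveILetI false

namespace Cfsg.Lib.SpThreeUnip

open Cfsg.Lib.Classical Cfsg.Lib.SpTwoGen

universe u

variable {F : Type u} [Field F] {m l : ℕ}

local notation "Bs" => sympBilin m F
local notation "hAlt" => sympBilin_isAlt m F

/-- The element of the `k`-th short simple root. -/
noncomputable def aEl (k : ℕ) : BilinIsom (sympBilin m F) :=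
  pairT (f (k + 1)) (e k) (bfe_ne (Nat.succ_ne_self k)) (-1)

/-- The product of the first `k` short simple root elements. -/
noncomputable def lev : ℕ → BilinIsom (sympBilin m F)
  | 0 => 1
  | k + 1 => aEl k * lev k

theorem aEl_apply (k : ℕ) (x : Fin m ⊕ Fin m → F) :
    (aEl k : BilinIsom (sympBilin m F)).1 x = x - (sympBilin m F x (f (k + 1)) • e k + sympBilin m F x (e k) • f (k + 1)) := by
  rw [aEl, pairT_apply, neg_one_smul, sub_eq_add_neg]

theorem aEl_e_succ {k : ℕ} (hk : k + 1 < m) :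
    (aEl k : BilinIsom (sympBilin m F)).1 (e (k + 1)) = e (k + 1) + e k := by
  simp [aEl_apply, bef_self hk]

theorem aEl_e {k i : ℕ} (h : i ≠ k + 1) : (aEl k : BilinIsom (sympBilin m F)).1 (e i) = e i := by
  simp [aEl_apply, bef_ne h]

theorem aEl_f_self {k : ℕ} (hk : k < m) :
    (aEl k : BilinIsom (sympBilin m F)).1 (f k) = f k - f (k + 1) := by
  simp [aEl_apply, bfe_self hk]

theorem aEl_f {k i : ℕ} (h : i ≠ k) : (aEl k : BilinIsom (sympBilin m F)).1 (f i) = f i := by
  simp [aEl_apply, bfe_ne h]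

theorem lev_e_zero (k : ℕ) : (lev k : BilinIsom (sympBilin m F)).1 (e 0) = e 0 := by
  induction k with
  | zero => rfl
  | succ k ih => rw [lev, BilinIsom.mul_apply', ih, aEl_e (by omega)]

theorem lev_e_high {k : ℕ} : ∀ {i : ℕ}, k < i → (lev k : BilinIsom (sympBilin m F)).1 (e i) = e i := by
  induction k with
  | zero => exact fun _ => rfl
  | succ k ih => exact fun h => by rw [lev, BilinIsom.mul_apply', ih (by omega), aEl_e (by omega)]

theorem lev_e_succ {k : ℕ} (hk : k < m) : ∀ {i : ℕ}, i < k →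
    (lev k : BilinIsom (sympBilin m F)).1 (e (i + 1)) = e (i + 1) + e i := by
  induction k with
  | zero => intro i h; omega
  | succ k ih =>
    intro i h
    rw [lev, BilinIsom.mul_apply']
    rcases Nat.lt_or_ge i k with h' | h'
    · rw [ih (by omega) h', map_add, aEl_e (by omega), aEl_e (by omega)]
    · obtain rfl : i = k := by omega
      rw [lev_e_high (by omega), aEl_e_succ hk]

theorem lev_f_high {k : ℕ} : ∀ {i : ℕ}, k ≤ i → (lev k : BilinIsom (sympBilin m F)).1 (f i) = f i := by
  induction k with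
  | zero => exact fun _ => rfl
  | succ k ih => exact fun h => by rw [lev, BilinIsom.mul_apply', ih (by omega), aEl_f (by omega)]

theorem lev_f {k : ℕ} (hk : k < m) : ∀ {i : ℕ}, i < k →
    (lev k : BilinIsom (sympBilin m F)).1 (f i + f (i + 1)) = f i := by
  induction k with
  | zero => intro i h; omega
  | succ k ih =>
    intro i h
    rw [lev, BilinIsom.mul_apply']
    rcases Nat.lt_or_ge i k with h' | h'
    · rw [ih (by omega) h', aEl_f (by omega)]
    · obtain rfl : i = k := by omega
      rw [map_add, lev_f_high le_rfl, lev_f_high (by omega), map_add, aEl_f_self (by omega),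
        aEl_f (by omega), sub_add_cancel]

/-- A regular unipotent element. -/
noncomputable def U (l : ℕ) (F : Type u) [Field F] : BilinIsom (sympBilin (l + 1) F) :=
  sympT (sympBilin_isAlt (l + 1) F) (e l) 1 * lev l

theorem U_e_zero : (U l F).1 (e 0) = e 0 := by
  rw [U, BilinIsom.mul_apply', lev_e_zero, sympT_apply]; simp

theorem U_e_succ {i : ℕ} (h : i < l) : (U l F).1 (e (i + 1)) = e (i + 1) + e i := by
  rw [U, BilinIsom.mul_apply', lev_e_succ (by omega) h, sympT_apply]; simp

theorem U_f {i : ℕ} (h : i < l) : (U l F).1 (f i + f (i + 1)) = f i := by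
  rw [U, BilinIsom.mul_apply', lev_f (by omega) h, sympT_apply]
  simp [bfe_ne (show i ≠ l by omega)]

theorem U_f_last : (U l F).1 (f l) = f l + e l := by
  rw [U, BilinIsom.mul_apply', lev_f_high le_rfl, sympT_apply]
  simp [bfe_self (show l < l + 1 by omega)]

theorem U_inv_f {i : ℕ} (h : i < l) :
    ((U l F)⁻¹ : BilinIsom (sympBilin (l + 1) F)).1 (f i) = f i + f (i + 1) := by
  conv_lhs => rw [← U_f h]
  exact BilinIsom.inv_apply_self _ _

/-- The signed shift sends `e i` to `e (i + 1)`. -/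
theorem shift_e {i : ℕ} (h : i < l) : ((shift l F).1) (e i) = e (i + 1) := by
  have := shift_ev (F := F) (⟨i, h⟩ : Fin l)
  simpa [ev_eq] using this

theorem shift_f {i : ℕ} (h : i < l) : ((shift l F).1) (f i) = f (i + 1) := by
  have := shift_fv (F := F) (⟨i, h⟩ : Fin l)
  simpa [fv_eq] using this

theorem shift_e_last : ((shift l F).1) (e l) = f 0 := by
  have := shift_ev_last (l := l) (F := F)
  simpa [ev_eq, fv_eq] using this

theorem shift_f_last : ((shift l F).1) (f l) = -e 0 := by
  have hl : (f l : Fin (l + 1) ⊕ Fin (l + 1) → F) = fv (Fin.last l) := by simp [fv_eq]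
  have h0 : (e 0 : Fin (l + 1) ⊕ Fin (l + 1) → F) = ev 0 := by simp [ev_eq]
  rw [hl, h0]
  funext j
  rcases j with k | k <;> refine Fin.cases ?_ (fun p => ?_) k <;>
    simp [shift, shiftLin, ev, fv, Fin.succ_ne_zero, (Fin.castSucc_lt_last _).ne]

/-- The torus element scaling `e 0`. -/
noncomputable def tor0 (l : ℕ) (γ : Fˣ) : BilinIsom (sympBilin (l + 1) F) := tor (0 : Fin (l + 1)) γ

theorem tor0_e (γ : Fˣ) : (tor0 l γ).1 (e 0) = (γ : F) • e 0 := by
  have := tor_ev (0 : Fin (l + 1)) γ (F := F)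
  simpa [tor0, ev_eq] using this

theorem tor0_e_ne (γ : Fˣ) {i : ℕ} (h : i ≠ 0) : (tor0 l γ).1 (e i) = e i := by
  by_cases hi : i < l + 1
  · have := tor_apply_plane (F := F) (i := (0 : Fin (l + 1))) (j := ⟨i, hi⟩) (by simp [Fin.ext_iff, h])
      (ev_mem_plane _) γ
    simpa [tor0, ev_eq] using this
  · simp [e, hi]

theorem tor0_f_ne (γ : Fˣ) {i : ℕ} (h : i ≠ 0) : (tor0 l γ).1 (f i) = f i := by
  by_cases hi : i < l + 1
  · have := tor_apply_plane (F := F) (i := (0 : Fin (l + 1))) (j := ⟨i, hi⟩) (by simp [Fin.ext_iff, h])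
      (fv_mem_plane _) γ
    simpa [tor0, fv_eq] using this
  · simp [f, hi]

/-- The element whose conjugate of `U` completes the generators. -/
noncomputable def mover (l : ℕ) (γ : Fˣ) : BilinIsom (sympBilin (l + 1) F) := shift l F * tor0 l γ

/-- The third conjugate. -/
noncomputable def W (l : ℕ) (γ : Fˣ) : BilinIsom (sympBilin (l + 1) F) :=
  mover l γ * U l F * (mover l γ)⁻¹

theorem W_apply (γ : Fˣ) {x y z : Fin (l + 1) ⊕ Fin (l + 1) → F} (hx : (mover l γ).1 x = y)
    (hz : (mover l γ).1 ((U l F).1 x) = z) : (W l γ).1 y = z := by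
  rw [W, ← hx, BilinIsom.mul_apply', BilinIsom.mul_apply', BilinIsom.inv_apply_self, hz]

theorem mover_apply (γ : Fˣ) (x : Fin (l + 1) ⊕ Fin (l + 1) → F) :
    (mover l γ).1 x = (shift l F).1 ((tor0 l γ).1 x) := BilinIsom.mul_apply' _ _ _

theorem W_e_one (γ : Fˣ) (hl : 0 < l) : (W l γ).1 (e 1) = e 1 := by
  have hx : (mover l γ).1 ((γ : F)⁻¹ • e 0) = e 1 := by
    rw [mover_apply, map_smul, tor0_e, smul_smul, inv_mul_cancel₀ γ.ne_zero, one_smul, shift_e hl]
  exact W_apply γ hx (by rw [map_smul, U_e_zero, hx])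

theorem W_e_zero (γ : Fˣ) (hl : 0 < l) : (W l γ).1 (e 0) = e 0 - f 0 := by
  refine W_apply γ (x := -f l) (by rw [mover_apply, map_neg, tor0_f_ne γ (by omega), map_neg, shift_f_last, neg_neg]) ?_
  rw [map_neg, U_f_last, mover_apply, map_neg, map_add, tor0_f_ne γ (by omega), tor0_e_ne γ (by omega),
    map_neg, map_add, shift_f_last, shift_e_last, neg_add, neg_neg, sub_eq_add_neg]

theorem W_f_zero (γ : Fˣ) (hl : 2 ≤ l) : (W l γ).1 (f 0) = f 0 + e l := by
  obtain ⟨l, rfl⟩ : ∃ j, l = j + 1 := ⟨l - 1, by omega⟩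
  refine W_apply γ (x := e (l + 1)) (by rw [mover_apply, tor0_e_ne γ (by omega), shift_e_last]) ?_
  rw [U_e_succ (by omega), mover_apply, map_add, tor0_e_ne γ (by omega), tor0_e_ne γ (by omega),
    map_add, shift_e_last, shift_e (by omega)]

theorem W_f_zero_two (γ : Fˣ) : (W 1 γ).1 (f 0) = f 0 + (γ : F) • e 1 := by
  refine W_apply γ (x := e 1) (by rw [mover_apply, tor0_e_ne γ (by omega), shift_e_last]) ?_
  rw [U_e_succ (i := 0) (by omega), mover_apply, map_add, tor0_e_ne γ (by omega), tor0_e, map_add, shift_e_last,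
    map_smul, shift_e (by omega)]

theorem W_e_two (hl : 2 ≤ l) {i : ℕ} (h : i + 2 ≤ l) :
    (W l (1 : Fˣ)).1 (e (i + 2)) = e (i + 2) + e (i + 1) := by
  have hm : ∀ x, (mover l (1 : Fˣ)).1 x = (shift l F).1 x := fun x => by
    rw [mover_apply, tor0, map_one, BilinIsom.one_apply']
  refine W_apply 1 (x := e (i + 1)) (by rw [hm, shift_e (by omega)]) ?_
  rw [U_e_succ (by omega), hm, map_add, shift_e (by omega), shift_e (by omega)]

theorem aEl_conj_fixed {k : ℕ} {g : BilinIsom (sympBilin m F)} (hf : g.1 (f (k + 1)) = f (k + 1))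
    (he : g.1 (e k) = e k) : g * aEl k * g⁻¹ = aEl k := by
  rw [aEl, pairT_conj']
  exact BilinIsom.ext' fun z => by rw [pairT_apply, pairT_apply, hf, he]

/-- The commutator of `U` with `pairT (e 0) (e 2)` is a root element. -/
theorem conj_pair (hl : 2 ≤ l) (c : F) :
    pairT (e 0) (e 2) (bee 0 2) c * U l F * (pairT (e 0) (e 2) (bee 0 2) c)⁻¹ =
      pairT (e 0) (e 1) (bee 0 1) (-c) * U l F := by
  set g : BilinIsom (sympBilin (l + 1) F) := pairT (e 0) (e 2) (bee 0 2) c with hg
  set Z : BilinIsom (sympBilin (l + 1) F) := pairT (e 0) (e 1) (bee 0 1) (-c) with hZ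
  have hT : g * sympT (sympBilin_isAlt (l + 1) F) (e l) 1 * g⁻¹ = sympT (sympBilin_isAlt (l + 1) F) (e l) 1 := by
    rw [sympT_conj]; congr 1; simp [hg, pairT_apply]
  have hTZ : Z * sympT (sympBilin_isAlt (l + 1) F) (e l) 1 = sympT (sympBilin_isAlt (l + 1) F) (e l) 1 * Z := by
    rw [← mul_inv_eq_iff_eq_mul, sympT_conj]; congr 1; simp [hZ, pairT_apply]
  have h : ∀ k, k ≤ l → g * lev k * g⁻¹ = if 2 ≤ k then Z * lev k else lev k := by
    intro k
    induction k with
    | zero => intro _; simp [lev]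
    | succ k ih =>
      intro hk
      rw [show g * lev (k + 1) * g⁻¹ = (g * aEl k * g⁻¹) * (g * lev k * g⁻¹) by rw [lev]; group, ih (by omega)]
      rcases Nat.lt_or_ge k 2 with h2 | h2
      · rw [if_neg (by omega)]
        rcases (show k = 0 ∨ k = 1 by omega) with rfl | rfl
        · rw [if_neg (by omega), aEl_conj_fixed (by simp [hg, pairT_apply]) (by simp [hg, pairT_apply]), lev.eq_2]
        · rw [if_pos le_rfl]
          have e1 : g * aEl 1 * g⁻¹ = Z * aEl 1 := by
            rw [aEl, pairT_conj']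
            refine BilinIsom.ext' fun z => ?_
            rw [pairT_apply, BilinIsom.mul_apply', hZ, pairT_apply, pairT_apply]
            simp [hg, pairT_apply, bfe_self (show 2 < l + 1 by omega)]
            module
          rw [e1, lev.eq_2 (k := 1), mul_assoc]
      · rw [if_pos h2, if_pos (by omega), aEl_conj_fixed
          (by simp [hg, pairT_apply, bfe_ne (show k + 1 ≠ 0 by omega), bfe_ne (show k + 1 ≠ 2 by omega)])
          (by simp [hg, pairT_apply]), ← mul_assoc, lev, ← mul_assoc]
        congr 1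
        have := aEl_conj_fixed (m := l + 1) (k := k) (g := Z)
          (by simp [hZ, pairT_apply, bfe_ne (show k + 1 ≠ 0 by omega), bfe_ne (show k + 1 ≠ 1 by omega)])
          (by simp [hZ, pairT_apply])
        exact (mul_inv_eq_iff_eq_mul.1 this).symm
  rw [U, show g * (sympT (sympBilin_isAlt (l + 1) F) (e l) 1 * lev l) * g⁻¹ =
    (g * sympT (sympBilin_isAlt (l + 1) F) (e l) 1 * g⁻¹) * (g * lev l * g⁻¹) by group, hT, h l le_rfl,
    if_pos hl, ← mul_assoc, ← hTZ, mul_assoc]

/-- The basis in the order of the flag of `U`. -/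
noncomputable def chain (l r : ℕ) : Fin (l + 1) ⊕ Fin (l + 1) → F :=
  if r ≤ l then e r else if r ≤ 2 * l + 1 then f (2 * l + 1 - r) else 0

/-- The span of the first vectors of the chain. -/
noncomputable def flag (l r : ℕ) (F : Type u) [Field F] : Submodule F (Fin (l + 1) ⊕ Fin (l + 1) → F) :=
  Submodule.span F ((chain l) '' {i | i < r})

theorem chain_mem {r s : ℕ} (h : r < s) : (chain l r : _ → F) ∈ flag l s F :=
  Submodule.subset_span ⟨r, h, rfl⟩

theorem flag_zero : flag l 0 F = ⊥ := by simp [flag]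

theorem flag_mono {r s : ℕ} (h : r ≤ s) : flag l r F ≤ flag l s F :=
  Submodule.span_mono (Set.image_mono fun _ hi => lt_of_lt_of_le hi h)

/-- `U - 1` as a linear map. -/
noncomputable def nil (l : ℕ) (F : Type u) [Field F] :
    (Fin (l + 1) ⊕ Fin (l + 1) → F) →ₗ[F] (Fin (l + 1) ⊕ Fin (l + 1) → F) :=
  (U l F).1.toLinearMap - LinearMap.id

theorem nil_apply (x : Fin (l + 1) ⊕ Fin (l + 1) → F) : nil l F x = (U l F).1 x - x := rfl

theorem nil_chain_zero : nil l F (chain l 0) = 0 := by
  simp [nil_apply, chain, U_e_zero]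

theorem nil_chain : ∀ r, r < 2 * l + 1 →
    ∃ c : F, c ≠ 0 ∧ nil l F (chain l (r + 1)) - c • chain l r ∈ flag l r F := by
  intro r
  induction r using Nat.strong_induction_on with
  | _ r ih =>
    intro hr
    rcases Nat.lt_or_ge r l with h | h
    · refine ⟨1, one_ne_zero, ?_⟩
      simp [nil_apply, chain, show r + 1 ≤ l by omega, h.le, U_e_succ h]
    rcases Nat.eq_or_lt_of_le h with rfl | h'
    · refine ⟨1, one_ne_zero, ?_⟩
      rw [show (chain l (l + 1) : _ → F) = f l by
        simp only [chain, show ¬ l + 1 ≤ l by omega, if_false, show l + 1 ≤ 2 * l + 1 by omega, if_true]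
        congr 1; omega]
      simp [nil_apply, chain, U_f_last]
    obtain ⟨i, hi⟩ : ∃ i, i = 2 * l + 1 - (r + 1) := ⟨_, rfl⟩
    have e1 : (chain l (r + 1) : _ → F) = f i := by
      simp only [chain, show ¬ r + 1 ≤ l by omega, if_false, show r + 1 ≤ 2 * l + 1 by omega, if_true, hi]
    have e2 : (chain l r : _ → F) = f (i + 1) := by
      simp only [chain, show ¬ r ≤ l by omega, if_false, show r ≤ 2 * l + 1 by omega, if_true]
      congr 1; omega
    refine ⟨-1, by simp, ?_⟩
    have hu : nil l F (f i) = -(U l F).1 (f (i + 1)) := by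
      have := U_f (F := F) (show i < l by omega)
      rw [map_add] at this
      rw [nil_apply]
      conv_lhs => arg 2; rw [← this]
      abel
    rw [e1, e2, hu, neg_one_smul, sub_neg_eq_add, neg_add_eq_sub, ← neg_sub, ← nil_apply, ← e2]
    refine Submodule.neg_mem _ ?_
    obtain ⟨r', rfl⟩ : ∃ r', r = r' + 1 := ⟨r - 1, by omega⟩
    obtain ⟨c, -, hc⟩ := ih r' (by omega) (by omega)
    have := add_mem (flag_mono (by omega : r' ≤ r' + 1) hc)
      (Submodule.smul_mem _ c (chain_mem (l := l) (F := F) (show r' < r' + 1 by omega)))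
    rwa [sub_add_cancel] at this

theorem nil_flag {r : ℕ} (hr : r ≤ 2 * l + 1) {x : Fin (l + 1) ⊕ Fin (l + 1) → F}
    (hx : x ∈ flag l (r + 1) F) : nil l F x ∈ flag l r F := by
  suffices flag l (r + 1) F ≤ (flag l r F).comap (nil l F) from this hx
  rw [flag, Submodule.span_le]
  rintro _ ⟨i, hi, rfl⟩
  simp only [Set.mem_setOf_eq] at hi
  rw [SetLike.mem_coe, Submodule.mem_comap]
  rcases i with _ | i
  · rw [nil_chain_zero]; exact zero_mem _
  · obtain ⟨c, -, hc⟩ := nil_chain (l := l) (F := F) i (by omega)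
    have := add_mem (flag_mono (by omega : i ≤ r) hc)
      (Submodule.smul_mem _ c (chain_mem (l := l) (F := F) (show i < r by omega)))
    rwa [sub_add_cancel] at this

theorem nil_pow_flag : ∀ k, k ≤ 2 * l + 2 → ∀ x ∈ flag l k F, (nil l F ^ k) x = 0
  | 0, _, x, hx => by rw [flag_zero, Submodule.mem_bot] at hx; simp [hx]
  | k + 1, hk, x, hx => by
    rw [pow_succ, Module.End.mul_apply]
    exact nil_pow_flag k (by omega) _ (nil_flag (by omega) hx)

theorem flag_top : flag l (2 * l + 2) F = ⊤ := by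
  rw [eq_top_iff]
  intro x _
  rw [← Finset.univ_sum_single x]
  refine Submodule.sum_mem _ fun j _ => ?_
  rw [show Pi.single j (x j) = x j • (Pi.single j 1 : _ → F) by ext i; simp [Pi.single_apply]]
  refine Submodule.smul_mem _ _ ?_
  rcases j with i | i
  · have : (Pi.single (Sum.inl i) 1 : _ → F) = chain l i.val := by
      simp [chain, show i.val ≤ l by omega, ← ev_eq, ev]
    exact this ▸ chain_mem (by omega)
  · have : (Pi.single (Sum.inr i) 1 : _ → F) = chain l (2 * l + 1 - i.val) := by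
      simp only [chain, show ¬ 2 * l + 1 - i.val ≤ l by omega, if_false,
        show 2 * l + 1 - i.val ≤ 2 * l + 1 by omega, if_true, show 2 * l + 1 - (2 * l + 1 - i.val) = i.val by omega]
      rw [← fv_eq]; rfl
    exact this ▸ chain_mem (by omega)

theorem nil_pow_top : nil l F ^ (2 * l + 2) = 0 :=
  LinearMap.ext fun x => nil_pow_flag _ le_rfl x (by rw [flag_top (F := F)]; exact Submodule.mem_top)

theorem nil_pow_chain : ∀ r, r ≤ 2 * l + 1 → ∃ c : F, c ≠ 0 ∧ (nil l F ^ r) (chain l r) = c • chain l 0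
  | 0, _ => ⟨1, one_ne_zero, by simp⟩
  | r + 1, hr => by
    obtain ⟨c, hc, hmem⟩ := nil_chain (l := l) (F := F) r (by omega)
    obtain ⟨d, hd, hp⟩ := nil_pow_chain r (by omega)
    refine ⟨c * d, mul_ne_zero hc hd, ?_⟩
    rw [pow_succ, Module.End.mul_apply,
      show nil l F (chain l (r + 1)) = (nil l F (chain l (r + 1)) - c • chain l r) + c • chain l r by abel,
      map_add, map_smul, nil_pow_flag r (by omega) _ hmem, hp, zero_add, smul_smul]

theorem nil_pow_ne : nil l F ^ (2 * l + 1) ≠ 0 := fun h => by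
  obtain ⟨c, hc, e1⟩ := nil_pow_chain (l := l) (F := F) (2 * l + 1) le_rfl
  rw [h, LinearMap.zero_apply] at e1
  rcases smul_eq_zero.1 e1.symm with h' | h'
  · exact hc h'
  · exact e_ne (show 0 < l + 1 by omega) (by simpa [chain] using h')

end Cfsg.Lib.SpThreeUnip
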