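import Cfsg.Agent.Known.SpThreeUnip.Basic

/-! # Generation in rank at least three -/

set_option autoImplicit false
set_option linter.style.haveILetI false

namespace Cfsg.Lib.SpThreeUnip

open Cfsg.Lib.Classical Cfsg.Lib.SpTwoGen

universe u

variable {F : Type u} [Field F] {l : ℕ} {H : Subgroup (BilinIsom (sympBilin (l + 1) F))}

theorem double_neg_mem {c : F} (h2 : (2 : F) ≠ 0) {A : AddSubgroup F} (h : ∀ x, x * x ∈ A) : c ∈ A := by
  have h4 : (4 : F) ≠ 0 := by
    rw [show (4 : F) = 2 * 2 by norm_num]; exact mul_ne_zero h2 h2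
  rw [show c = ((c + 1) / 2) * ((c + 1) / 2) - ((c - 1) / 2) * ((c - 1) / 2) by field_simp; ring]
  exact sub_mem (h _) (h _)

theorem addSubgroup_of_squares [Finite F] {A : AddSubgroup F} (h : ∀ x, x * x ∈ A) (c : F) : c ∈ A := by
  by_cases h2 : (2 : F) = 0
  · have := Fintype.ofFinite F
    haveI : CharP F 2 := CharTwo.of_one_ne_zero_of_two_eq_zero one_ne_zero h2
    obtain ⟨y, hy⟩ := FiniteField.isSquare_of_char_two (ringChar.eq F 2) c
    exact hy ▸ h y
  · exact double_neg_mem h2 h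

section

variable (hl : 2 ≤ l) (hU : U l F ∈ H) (hW : W l (1 : Fˣ) ∈ H)

include hl hW in
/-- Descending along `W` from `e 0`. -/
theorem ek_one {c : F} (h : PH H (e 0) (e 1) c) : ∀ k, 2 ≤ k → k ≤ l → PH H (e k) (e 1) c := by
  have w1 : (W l (1 : Fˣ)).1 (e 1) = e 1 := W_e_one 1 (by omega)
  have w0 : (W l (1 : Fˣ)).1 (e 0) = e 0 - f 0 := W_e_zero 1 (by omega)
  have hA : PH H (e 0 - f 0) (e 1) c := h.conj hW w0 w1
  have hB : PH H (e 0 - f 0 - f 0 - e l) (e 1) c := hA.conj hW
    (by rw [map_sub, w0, W_f_zero 1 hl, sub_add_eq_sub_sub]) w1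
  have hN : PH H (-e 0) (e 1) c := by
    rw [show (-e 0 : Fin (l + 1) ⊕ Fin (l + 1) → F) = (-1 : F) • e 0 by simp]
    exact PH.smul (by simpa using h.neg_c)
  -- `(e0 - f0) + (-e0) + (e0 - f0) + z = W (e0 - f0)` for `z = -e l`
  obtain ⟨a0, a1⟩ := hA
  obtain ⟨b0, b1⟩ := hB
  obtain ⟨n0, n1⟩ := hN
  have hz : sympBilin (l + 1) F (-e l) (e 1) = 0 := by simp
  have key : pairT (e 0 - f 0 - f 0 - e l) (e 1) b0 c = pairT (e 0 - f 0) (e 1) a0 c *
      pairT (-e 0) (e 1) n0 c * pairT (e 0 - f 0) (e 1) a0 c * pairT (-e l) (e 1) hz c := by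
    refine BilinIsom.ext' fun x => ?_
    simp only [BilinIsom.mul_apply', pairT_apply]
    simp [bfe_ne (show (0 : ℕ) ≠ 1 by omega), bef_ne (show l ≠ 0 by omega), bfe_self (show 0 < l + 1 by omega),
      bef_self (show 0 < l + 1 by omega), bfe_ne (show (0 : ℕ) ≠ l by omega), bef_ne (show (1 : ℕ) ≠ 0 by omega)]
    module
  have hel : PH H (-e l) (e 1) c := by
    refine ⟨hz, ?_⟩
    rw [key] at b1
    exact (Subgroup.mul_mem_cancel_left _ (mul_mem (mul_mem a1 n1) a1)).1 b1
  have hel' : PH H (e l) (e 1) c := by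
    rw [show (e l : Fin (l + 1) ⊕ Fin (l + 1) → F) = (-1 : F) • -e l by simp]
    exact PH.smul (by simpa using hel.neg_c)
  suffices ∀ j k, k + j = l → 2 ≤ k → PH H (e k) (e 1) c from fun k hk hk' => this (l - k) k (by omega) hk
  intro j
  induction j with
  | zero => intro k hk _; rw [show k = l by omega]; exact hel'
  | succ j ih =>
    intro k hk h2
    have h1 := ih (k + 1) (by omega) (by omega)
    obtain ⟨i, rfl⟩ : ∃ i, k = i + 1 := ⟨k - 1, by omega⟩
    exact (h1.conj hW (W_e_two hl (by omega)) w1).cancel0 h1 (bee _ _)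

include hl hW in
theorem t_one {c : F} (h : PH H (e 2) (e 1) c) : TH H (e 1) (2 * c) :=
  PH.self_iff.1 ((h.conj hW (W_e_two (i := 0) hl (by omega)) (W_e_one 1 (by omega))).cancel0 h (bee _ _))

include hl hU hW in
/-- The parameters of `pairT (e 0) (e 1)` are those of `pairT (e 1) (e 2)`. -/
theorem back {x : F} (h : PH H (e 2) (e 1) x) : PH H (e 0) (e 1) x := by
  have u2 : (U l F).1 (e 2) = e 2 + e 1 := U_e_succ (i := 1) (by omega)
  have u1 : (U l F).1 (e 1) = e 1 + e 0 := U_e_succ (i := 0) (by omega)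
  have u0 : (U l F).1 (e 0) = e 0 := U_e_zero
  have h11 : PH H (e 1) (e 1) x := PH.self_iff.2 (t_one hl hW h)
  obtain ⟨a0, a1⟩ := h.conj hU u2 u1
  obtain ⟨b0, b1⟩ := h
  obtain ⟨c0, c1⟩ := h11
  set P20 := pairT (e 2) (e 0) (bee (F := F) (m := l + 1) 2 0) x with hP20
  set P10 := pairT (e 1) (e 0) (bee (F := F) (m := l + 1) 1 0) x with hP10
  have hZ : P20 * P10 ∈ H := by
    have key : pairT (e 2 + e 1) (e 1 + e 0) a0 x =
        pairT (e 2) (e 1) b0 x * pairT (e 1) (e 1) c0 x * (P20 * P10) := by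
      refine BilinIsom.ext' fun z => ?_
      simp only [hP20, hP10, BilinIsom.mul_apply', pairT_apply]
      simp
      module
    rw [key] at a1
    exact (Subgroup.mul_mem_cancel_left _ (mul_mem b1 c1)).1 a1
  have hc : ∀ a b : Fin (l + 1) ⊕ Fin (l + 1) → F, ∀ hab, U l F * pairT a b hab x * (U l F)⁻¹ =
      pairT ((U l F).1 a) ((U l F).1 b) (by rw [BilinIsom.map_form]; exact hab) x :=
    fun a b hab => pairT_conj' _ _ _ hab _
  set P00 := pairT (e 0) (e 0) (bee (F := F) (m := l + 1) 0 0) x with hP00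
  have hZ2 : P10 * P00 ∈ H := by
    have e1 : U l F * (P20 * P10) * (U l F)⁻¹ = (P20 * P10) * (P10 * P00) := by
      rw [show U l F * (P20 * P10) * (U l F)⁻¹ = (U l F * P20 * (U l F)⁻¹) * (U l F * P10 * (U l F)⁻¹) by group,
        hP20, hP10, hc, hc, hP00]
      refine BilinIsom.ext' fun z => ?_
      simp only [BilinIsom.mul_apply', pairT_apply, u2, u1, u0]
      simp
      module
    exact (Subgroup.mul_mem_cancel_left _ hZ).1 (e1 ▸ mul_mem (mul_mem hU hZ) (inv_mem hU))
  have hP0 : P00 ∈ H := by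
    have e1 : U l F * (P10 * P00) * (U l F)⁻¹ = (P10 * P00) * P00 := by
      rw [show U l F * (P10 * P00) * (U l F)⁻¹ = (U l F * P10 * (U l F)⁻¹) * (U l F * P00 * (U l F)⁻¹) by group,
        hP00, hP10, hc, hc]
      refine BilinIsom.ext' fun z => ?_
      simp only [BilinIsom.mul_apply', pairT_apply, u1, u0]
      simp
      module
    exact (Subgroup.mul_mem_cancel_left _ hZ2).1 (e1 ▸ mul_mem (mul_mem hU hZ2) (inv_mem hU))
  exact PH.symm ⟨_, (Subgroup.mul_mem_cancel_right _ hP0).1 hZ2⟩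

include hl hU hW in
theorem two_zero {c : F} (h : PH H (e 0) (e 1) c) : PH H (e 2) (e 0) c := by
  have h21 := ek_one hl hW h 2 le_rfl hl
  obtain ⟨a0, a1⟩ := h21.conj hU (U_e_succ (i := 1) (by omega)) (U_e_succ (i := 0) (by omega))
  obtain ⟨b0, b1⟩ := h21
  obtain ⟨c0, c1⟩ : PH H (e 1) (e 1) c := PH.self_iff.2 (t_one hl hW ⟨b0, b1⟩)
  obtain ⟨d0, d1⟩ := h.symm
  refine ⟨bee _ _, ?_⟩
  have key : pairT (e 2 + e 1) (e 1 + e 0) a0 c =
      pairT (e 2) (e 1) b0 c * pairT (e 1) (e 1) c0 c * pairT (e 1) (e 0) d0 c *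
        pairT (e 2) (e 0) (bee 2 0) c := by
    refine BilinIsom.ext' fun z => ?_
    simp only [BilinIsom.mul_apply', pairT_apply]
    simp
    module
  rw [key] at a1
  exact (Subgroup.mul_mem_cancel_left _ (mul_mem (mul_mem b1 c1) d1)).1 a1

include hl hW in
theorem root_apply_e_zero {d : F} (h : PH H (e 0) (e 1) d) :
    ∃ g ∈ H, g.1 (e 0) = e 0 + d • e 1 ∧ g.1 (e 2) = e 2 ∧ g.1 (f 2) = f 2 ∧ g.1 (e 1) = e 1 := by
  obtain ⟨a0, a1⟩ := h.conj hW (W_e_zero 1 (by omega)) (W_e_one 1 (by omega))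
  refine ⟨_, a1, ?_, ?_, ?_, ?_⟩ <;> rw [pairT_apply] <;>
    simp [bef_self (show 0 < l + 1 by omega), bef_ne (show (2 : ℕ) ≠ 0 by omega),
      bef_ne (show (1 : ℕ) ≠ 0 by omega), bfe_ne (show (2 : ℕ) ≠ 0 by omega), bfe_ne (show (2 : ℕ) ≠ 1 by omega)]

include hl hU hW in
/-- The parameters are closed under products. -/
theorem mul_closed {c d : F} (hc : PH H (e 0) (e 1) c) (hd : PH H (e 0) (e 1) d) :
    PH H (e 0) (e 1) (d * c) := by
  obtain ⟨g, hg, g0, g2, -, -⟩ := root_apply_e_zero hl hW hd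
  have h20 := two_zero hl hU hW hc
  have h1 := ((h20.conj hg g2 g0).symm.cancel0 h20.symm (by simp)).symm
  obtain ⟨q0, q1⟩ := h1
  refine back hl hU hW ⟨bee _ _, ?_⟩
  convert q1 using 1
  exact BilinIsom.ext' fun z => by rw [pairT_apply, pairT_apply, map_smul, smul_eq_mul]; module

variable [Finite F]

include hl hU hW in
theorem all_zero_one {k : Fˣ} (hk : ∀ x : Fˣ, x ∈ Subgroup.zpowers k) (h : PH H (e 0) (e 1) (k : F)) (c : F) :
    PH H (e 0) (e 1) c := by
  rcases eq_or_ne c 0 with rfl | hc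
  · exact PH.zero (bee _ _)
  obtain ⟨j, hj⟩ := (mem_powers_iff_mem_zpowers (x := k)).2 (hk (Units.mk0 c hc * k⁻¹))
  have e : c = (k : F) ^ (j + 1) := by
    have := congrArg (fun u : Fˣ => (u : F)) hj
    simp only [Units.val_pow_eq_pow_val, Units.val_mul, Units.val_mk0] at this
    rw [pow_succ, this, mul_assoc, ← Units.val_mul, inv_mul_cancel, Units.val_one, mul_one]
  subst e
  clear hj hc
  induction j with
  | zero => simpa using h
  | succ j ih => rw [pow_succ]; exact mul_closed hl hU hW h ih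

end

section

variable (hl : 2 ≤ l) (hU : U l F ∈ H) (hW : W l (1 : Fˣ) ∈ H)
variable (h01 : ∀ c : F, PH H (e 0) (e 1) c)

local notation "aa" => (e 0 - f 0 : Fin (l + 1) ⊕ Fin (l + 1) → F)

include hl hU hW h01 in
theorem ek_zero (c : F) : ∀ k, 1 ≤ k → k ≤ l → PH H (e k) (e 0) c := by
  intro k
  induction k with
  | zero => omega
  | succ k ih =>
    intro _ hk
    rcases Nat.lt_or_ge k 2 with h2 | h2
    · rcases (show k = 0 ∨ k = 1 by omega) with rfl | rfl
      · exact (h01 c).symm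
      · exact two_zero hl hU hW (h01 c)
    have hk1 := ek_one hl hW (h01 c) k h2 (by omega)
    have hk1' := ek_one hl hW (h01 c) (k + 1) (by omega) hk
    obtain ⟨a0, a1⟩ := hk1'.conj hU (U_e_succ (i := k) (by omega)) (U_e_succ (i := 0) (by omega))
    obtain ⟨b0, b1⟩ := hk1'
    obtain ⟨c0, c1⟩ := hk1
    obtain ⟨d0, d1⟩ := ih (by omega) (by omega)
    refine ⟨bee _ _, ?_⟩
    have key : pairT (e (k + 1) + e k) (e 1 + e 0) a0 c =
        pairT (e (k + 1)) (e 1) b0 c * pairT (e k) (e 1) c0 c * pairT (e k) (e 0) d0 c *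
          pairT (e (k + 1)) (e 0) (bee _ _) c := by
      refine BilinIsom.ext' fun z => ?_
      simp only [BilinIsom.mul_apply', pairT_apply]
      simp
      module
    rw [key] at a1
    exact (Subgroup.mul_mem_cancel_left _ (mul_mem (mul_mem b1 c1) d1)).1 a1

include hl hU hW h01 in
theorem aa_e (c : F) : ∀ k, 1 ≤ k → k ≤ l → PH H aa (e k) c := by
  intro k
  induction k with
  | zero => omega
  | succ k ih =>
    intro _ hk
    rcases Nat.eq_zero_or_pos k with rfl | h
    · exact (h01 c).conj hW (W_e_zero 1 (by omega)) (W_e_one 1 (by omega))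
    have h1 := (ek_zero hl hU hW h01 c (k + 1) (by omega) hk).symm.conj hW (W_e_zero 1 (by omega))
      (show _ = e (k + 1) + e k by obtain ⟨i, rfl⟩ : ∃ i, k = i + 1 := ⟨k - 1, by omega⟩; exact W_e_two hl (by omega))
    rw [add_comm (e (k + 1)) (e k)] at h1
    exact (h1.symm.cancel0 (ih h (by omega)).symm (bee _ _)).symm

include hl hU hW h01 in
theorem f_one (c : F) : ∀ k, 2 ≤ k → k ≤ l → PH H (f 1) (e k) c := by
  intro k hk hkl
  obtain ⟨i, rfl⟩ : ∃ i, k = i + 1 := ⟨k - 1, by omega⟩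
  have h1 := ((aa_e hl hU hW h01 c (i + 1) (by omega) hkl).symm.add0
    (aa_e hl hU hW h01 c i (by omega) (by omega)).symm (bee _ _)).symm
  have h2 : PH H (e 0 - f 0 + -f 1) (e (i + 1)) c := h1.conj (inv_mem hU)
    (by
      rw [map_sub, U_inv_f (by omega),
        show ((U l F)⁻¹ : BilinIsom _).1 (e 0) = e 0 by
          conv_lhs => rw [← U_e_zero]
          exact BilinIsom.inv_apply_self _ _]
      abel)
    (by
      rw [← U_e_succ (show i < l by omega)]
      exact BilinIsom.inv_apply_self _ _)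
  have h3 := h2.cancel0 (aa_e hl hU hW h01 c (i + 1) (by omega) hkl) (by simp)
  rw [show (f 1 : Fin (l + 1) ⊕ Fin (l + 1) → F) = (-1 : F) • -f 1 by simp]
  refine PH.smul ?_
  obtain ⟨q0, q1⟩ := h3
  exact (PH.neg_c (⟨q0, q1⟩ : PH H (-f 1) (e (i + 1)) c) : PH H (-f 1) (e (i + 1)) (-c)) |> (by simpa using ·)

include hl hU hW h01 in
theorem f_two_zero (c : F) : PH H (f 2) (e 0) c := by
  have h12 := f_one hl hU hW h01 c 2 le_rfl hl
  have u : ((U l F)⁻¹ : BilinIsom _).1 (e 2) = e 2 - e 1 + e 0 := by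
    have : (U l F).1 (e 2 - e 1 + e 0) = e 2 := by
      rw [map_add, map_sub, U_e_succ (i := 1) (by omega), U_e_succ (i := 0) (by omega), U_e_zero]; abel
    conv_lhs => rw [← this]
    exact BilinIsom.inv_apply_self _ _
  have h1 : PH H (f 1 + f 2) (e 2 - e 1 + e 0) c := h12.conj (inv_mem hU) (U_inv_f (by omega)) u
  obtain ⟨q0, q1⟩ := f_one hl hU hW h01 (-1) 2 le_rfl hl
  have h2 : PH H (f 2) (e 0 - e 1) c := h1.conj q1
    (by
      rw [pairT_apply]
      simp [bfe_self (show 2 < l + 1 by omega), bfe_ne (show (1 : ℕ) ≠ 2 by omega)])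
    (by
      rw [pairT_apply]
      simp [bef_self (show 1 < l + 1 by omega), bef_ne (show (2 : ℕ) ≠ 1 by omega),
        bef_ne (show (0 : ℕ) ≠ 1 by omega)]
      module)
  obtain ⟨g, hg, g0, -, gf, g1⟩ := root_apply_e_zero hl hW (h01 1)
  exact h2.conj hg gf (by rw [map_sub, g0, g1, one_smul]; abel)

include hl hU hW h01 in
theorem f_zero (c : F) : ∀ j, 1 ≤ j → j ≤ l → PH H (f j) (e 0) c := by
  intro j
  induction j with
  | zero => omega
  | succ j ih =>
    intro _ hj
    rcases Nat.lt_or_ge j 2 with h | h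
    · rcases (show j = 0 ∨ j = 1 by omega) with rfl | rfl
      · obtain ⟨q0, q1⟩ := f_one hl hU hW h01 1 2 le_rfl hl
        have h2 := f_two_zero hl hU hW h01 c
        have h3 : PH H (f 2 + f 1) (e 0) c := h2.conj q1
          (by rw [pairT_apply]; simp [bfe_self (show 2 < l + 1 by omega)])
          (by rw [pairT_apply]; simp [bef_ne (show (0 : ℕ) ≠ 1 by omega)])
        exact h3.cancel0 h2 (bff _ _)
      · exact f_two_zero hl hU hW h01 c
    have u0 : ((U l F)⁻¹ : BilinIsom _).1 (e 0) = e 0 := by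
      conv_lhs => rw [← U_e_zero]
      exact BilinIsom.inv_apply_self _ _
    exact ((ih (by omega) (by omega)).conj (inv_mem hU) (U_inv_f (by omega)) u0).cancel0
      (ih (by omega) (by omega)) (bff _ _)

include hl hU hW h01 in
/-- The short roots outside the plane of `e 0`, `f 0`. -/
theorem f_e (c : F) {j k : ℕ} (hj : 1 ≤ j) (hjl : j ≤ l) (hk : k ≤ l) (hjk : k ≠ j) : PH H (f j) (e k) c := by
  rcases Nat.eq_zero_or_pos k with rfl | h
  · exact f_zero hl hU hW h01 c j hj hjl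
  obtain ⟨q0, q1⟩ := aa_e hl hU hW h01 1 k h hk
  have h0 := f_zero hl hU hW h01 c j hj hjl
  have h2 : PH H (f j) (e 0 + e k) c := h0.conj q1
    (by rw [pairT_apply]; simp [bfe_ne (show j ≠ k by omega), bfe_ne (show j ≠ 0 by omega)])
    (by rw [pairT_apply]; simp [bef_self (show 0 < l + 1 by omega)])
  exact (h2.symm.cancel0 h0.symm (bee _ _)).symm

include hl hU hW h01 in
theorem e_e (c : F) {j k : ℕ} (hj : 1 ≤ j) (hjl : j ≤ l) (hk : k ≤ l) (hjk : k ≠ j) : PH H (e j) (e k) c := by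
  rcases Nat.eq_zero_or_pos k with rfl | h
  · exact ek_zero hl hU hW h01 c j hj hjl
  obtain ⟨q0, q1⟩ := aa_e hl hU hW h01 1 k h hk
  have h0 := ek_zero hl hU hW h01 c j hj hjl
  have h2 : PH H (e j) (e 0 + e k) c := h0.conj q1
    (by rw [pairT_apply]; simp [bef_ne (show j ≠ 0 by omega)])
    (by rw [pairT_apply]; simp [bef_self (show 0 < l + 1 by omega)])
  exact (h2.symm.cancel0 h0.symm (bee _ _)).symm

include hl hU hW h01 in
theorem lev_mem : ∀ k, k ≤ l → lev k ∈ H := by
  intro k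
  induction k with
  | zero => exact fun _ => one_mem H
  | succ k ih =>
    intro hk
    exact mul_mem (f_e hl hU hW h01 (-1) (j := k + 1) (by omega) hk (by omega) (by omega)).2 (ih (by omega))

include hl hU hW h01 in
theorem t_last : TH H (e l) (1 : F) :=
  (Subgroup.mul_mem_cancel_right _ (lev_mem hl hU hW h01 l le_rfl)).1 hU

include hl hU hW h01 in
theorem t_mul {j k : ℕ} (hj : 1 ≤ j) (hjl : j ≤ l) (hk : k ≤ l) (hjk : k ≠ j) (h : TH H (e j) (1 : F)) (c : F) :
    TH H (e k) (c * c) := by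
  obtain ⟨q0, q1⟩ := f_e hl hU hW h01 (-c) hj hjl hk hjk
  have h1 : TH H (e j + c • e k) (1 : F) := h.conj q1
    (by rw [pairT_apply]; simp [bef_self (show j < l + 1 by omega)])
  have hp : PH H (e j) (c • e k) (1 : F) :=
    (PH.smul (k := c) (by simpa using (e_e hl hU hW h01 c hj hjl hk hjk).symm)).symm
  have := TH.snd (by simp) h1 h hp
  rwa [TH.smul, mul_one, pow_two] at this

variable [Finite F]

include hl hU hW h01 in
theorem e_centre {k : ℕ} (hk : k ≤ l) : e k ∈ transCentres (sympBilin_isAlt (l + 1) F) H := by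
  have hlow : ∀ i, i < l → ∀ c, TH H (e i) c := fun i hi =>
    addSubgroup_of_squares (A := tSet H (e i)) fun x =>
      t_mul hl hU hW h01 (by omega) le_rfl hi.le (by omega) (t_last hl hU hW h01) x
  rcases Nat.lt_or_ge k l with h | h
  · exact mem_centres.2 (hlow k h)
  · obtain rfl : k = l := by omega
    exact mem_centres.2 (addSubgroup_of_squares (A := tSet H (e k)) fun x =>
      t_mul hl hU hW h01 le_rfl (by omega) le_rfl (by omega) (hlow 1 (by omega) 1) x)

include hl hU hW h01 in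
theorem f_centre {k : ℕ} (hk : k ≤ l) : f k ∈ transCentres (sympBilin_isAlt (l + 1) F) H := by
  have he0 := e_centre hl hU hW h01 (Nat.zero_le l)
  have ha : aa ∈ transCentres (sympBilin_isAlt (l + 1) F) H := by
    have := transCentres_map he0 hW
    rwa [W_e_zero 1 (by omega)] at this
  have hf0 : f 0 ∈ transCentres (sympBilin_isAlt (l + 1) F) H := by
    have := transCentres_span he0 ha (by simp [bef_self (show 0 < l + 1 by omega)]) 1 (-1)
    simpa using this
  rcases Nat.eq_zero_or_pos k with rfl | hk0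
  · exact hf0
  have h0k : ∀ c : F, PH H (-f 0) (e k) c := by
    intro c
    refine PH.cancel (x := e 0) ?_ (e_e hl hU hW h01 c hk0 hk (Nat.zero_le l) (by omega)).symm
      (mem_centres.1 (e_centre hl hU hW h01 hk) _)
    rw [← sub_eq_add_neg]
    exact aa_e hl hU hW h01 c k hk0 hk
  obtain ⟨q0, q1⟩ := f_zero hl hU hW h01 1 k hk0 hk
  have h1 := transCentres_map hf0 q1
  rw [pairT_apply] at h1
  simp [bfe_self (show 0 < l + 1 by omega), bff] at h1
  obtain ⟨r0, r1⟩ := h0k 1
  have h2 := transCentres_map h1 r1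
  rw [pairT_apply] at h2
  simpa [bfe_self (show k < l + 1 by omega), bfe_ne (show (0 : ℕ) ≠ k by omega),
    bfe_ne (show k ≠ 0 by omega), add_assoc] using h2

include hl hU hW h01 in
theorem eq_top_big : H = ⊤ := by
  refine eq_top_of_links (fun i => ?_) (fun i => ?_) fun i hi => ?_
  · rw [ev_eq]; exact e_centre hl hU hW h01 (by omega)
  · rw [fv_eq]; exact f_centre hl hU hW h01 (by omega)
  · have hi' : 0 < i.val := by simpa using hi
    refine ⟨ev ⟨i.val - 1, by omega⟩, plane_le_below (i := (⟨i.val - 1, by omega⟩ : Fin (l + 1))) (show i.val - 1 < i.val by omega) (ev_mem_plane _), ev i, ev_mem_plane i, ?_, ?_, ?_⟩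
    · rw [ev_eq]; exact e_ne (by omega)
    · rw [ev_eq]; exact e_ne i.2
    · have := transCentres_map (e_centre hl hU hW h01 (show i.val ≤ l by omega)) hU
      obtain ⟨j, hj⟩ : ∃ j, i.val = j + 1 := ⟨i.val - 1, by omega⟩
      rw [hj, U_e_succ (by omega)] at this
      simpa [ev_eq, hj, add_comm] using this

end

end Cfsg.Lib.SpThreeUnip
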