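import Cfsg.Agent.Known.SpThreeUnip.Two

/-! # Three conjugate regular unipotent elements generate a symplectic group -/

set_option autoImplicit false
set_option linter.style.haveILetI false

namespace Cfsg.Lib.SpThreeUnip

open Cfsg.Lib.Classical Cfsg.Lib.SpTwoGen Matrix

universe u

variable {F : Type u} [Field F]

theorem exists_three_isom [Finite F] {l : ℕ} (hl : 1 ≤ l) (h22 : ¬ (l = 1 ∧ Nat.card F = 2)) :
    ∃ g h : BilinIsom (sympBilin (l + 1) F),
      Subgroup.closure ({U l F, g * U l F * g⁻¹, h * U l F * h⁻¹} : Set (BilinIsom (sympBilin (l + 1) F))) = ⊤ := by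
  classical
  have := Fintype.ofFinite F
  obtain ⟨k, hk⟩ := IsCyclic.exists_generator (α := Fˣ)
  rcases Nat.lt_or_ge 1 l with hl2 | hl1
  · obtain ⟨g, hgdef⟩ : ∃ g : BilinIsom (sympBilin (l + 1) F), g = pairT (e 0) (e 2) (bee 0 2) (-(k : F)) := ⟨_, rfl⟩
    refine ⟨g, mover l 1, ?_⟩
    set H := Subgroup.closure ({U l F, g * U l F * g⁻¹, mover l 1 * U l F * (mover l 1)⁻¹} :
      Set (BilinIsom (sympBilin (l + 1) F)))
    have hU : U l F ∈ H := Subgroup.subset_closure (by simp)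
    have hg : g * U l F * g⁻¹ ∈ H := Subgroup.subset_closure (by simp)
    have hW : W l (1 : Fˣ) ∈ H := Subgroup.subset_closure (by simp [W])
    rw [hgdef, conj_pair hl2] at hg
    have h0 : PH H (e 0) (e 1) (k : F) := ⟨bee 0 1, by simpa using (Subgroup.mul_mem_cancel_right _ hU).1 hg⟩
    exact eq_top_big hl2 hU hW (all_zero_one hl2 hU hW hk h0)
  obtain rfl : l = 1 := by omega
  have hq2 : Fintype.card F ≠ 2 := fun h => h22 ⟨rfl, by rw [Nat.card_eq_fintype_card, h]⟩
  have hq1 := Fintype.one_lt_card (α := F)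
  have hk1 : (k : F) ≠ 1 := by
    intro h1
    have : Fintype.card Fˣ ≤ 1 := Fintype.card_le_one_iff.2 fun a b => by
      have hk' : k = 1 := Units.ext h1
      obtain ⟨i, hi⟩ := hk a
      obtain ⟨j, hj⟩ := hk b
      simp [← hi, ← hj, hk']
    rw [Fintype.card_units] at this
    omega
  -- a torus element changing the long simple root element
  have htor : ∀ (m : Fˣ), ∃ g : BilinIsom (sympBilin 2 F),
      g * U 1 F * g⁻¹ = sympT (sympBilin_isAlt 2 F) (e 1) ((m : F) * m - 1) * U 1 F := by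
    intro m
    refine ⟨tor 0 m * tor 1 m, ?_⟩
    obtain ⟨g, hg⟩ : ∃ g : BilinIsom (sympBilin 2 F), g = tor 0 m * tor 1 m := ⟨_, rfl⟩
    rw [← hg]
    have hge : g.1 (e 0) = (m : F) • e 0 ∧ g.1 (e 1) = (m : F) • e 1 ∧ g.1 (f 1) = (m : F)⁻¹ • f 1 := by
      have he0 : (e 0 : Fin 2 ⊕ Fin 2 → F) = ev 0 := by simp [ev_eq]
      have he1 : (e 1 : Fin 2 ⊕ Fin 2 → F) = ev 1 := by simp [ev_eq]
      have hf1 : (f 1 : Fin 2 ⊕ Fin 2 → F) = fv 1 := by simp [fv_eq]
      rw [hg, BilinIsom.mul_apply', BilinIsom.mul_apply', BilinIsom.mul_apply', he0, he1, hf1]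
      refine ⟨?_, ?_, ?_⟩
      · rw [tor_apply_plane (by decide) (ev_mem_plane _), tor_ev]
      · rw [tor_ev, map_smul, tor_apply_plane (by decide) (ev_mem_plane _)]
      · rw [tor_fv, map_smul, tor_apply_plane (by decide) (fv_mem_plane _)]
    rw [U, show lev 1 = aEl 0 * lev 0 from rfl, show (lev 0 : BilinIsom (sympBilin 2 F)) = 1 from rfl, mul_one,
      show g * (sympT (sympBilin_isAlt 2 F) (e 1) 1 * aEl 0) * g⁻¹ =
        (g * sympT (sympBilin_isAlt 2 F) (e 1) 1 * g⁻¹) * (g * aEl 0 * g⁻¹) by group, sympT_conj, aEl,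
      pairT_conj', ← mul_assoc, ← sympT_add]
    refine BilinIsom.ext' fun x => ?_
    simp only [BilinIsom.mul_apply', pairT_apply, sympT_apply, hge.1, hge.2.1, hge.2.2]
    simp [smul_smul, mul_comm, mul_assoc]
    done
  by_cases h2 : (2 : F) = 0
  · haveI : CharP F 2 := CharTwo.of_one_ne_zero_of_two_eq_zero one_ne_zero h2
    obtain ⟨r, hr⟩ := FiniteField.isSquare_of_char_two (ringChar.eq F 2) ((k : F) + 1)
    have hr0 : r ≠ 0 := by
      rintro rfl
      exact hk1 (by linear_combination hr - h2)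
    obtain ⟨g, hg⟩ := htor (Units.mk0 r hr0)
    refine ⟨g, mover 1 k, ?_⟩
    set H := Subgroup.closure ({U 1 F, g * U 1 F * g⁻¹, mover 1 k * U 1 F * (mover 1 k)⁻¹} :
      Set (BilinIsom (sympBilin 2 F)))
    have hU : U 1 F ∈ H := Subgroup.subset_closure (by simp)
    have hgm : g * U 1 F * g⁻¹ ∈ H := Subgroup.subset_closure (by simp)
    have hW : W 1 k ∈ H := Subgroup.subset_closure (by simp [W])
    rw [hg] at hgm
    have h1 : TH H (e 1) (k : F) := by
      have := (Subgroup.mul_mem_cancel_right _ hU).1 hgm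
      rwa [Units.val_mk0, ← hr, add_sub_cancel_right] at this
    exact eq_top_two hU hW (e_zero_even hU hW h2 hk rfl hk1 h1)
  by_cases hq3 : Fintype.card F = 3
  · haveI : CharP F 3 := by
      obtain ⟨p, _⟩ := CharP.exists F
      obtain ⟨n, hp, hn⟩ := FiniteField.card F p
      rw [hq3] at hn
      have hp3 : p = 3 := by
        rcases (Nat.dvd_prime Nat.prime_three).1 ⟨p ^ ((n : ℕ) - 1), by
          rw [← pow_succ', Nat.sub_add_cancel (PNat.pos n : 1 ≤ (n : ℕ))]; exact hn⟩ with h | h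
        · exact absurd h hp.ne_one
        · exact h
      subst hp3; assumption
    have h3 : (3 : F) = 0 := by exact_mod_cast CharP.cast_eq_zero F 3
    obtain ⟨g, hgdef⟩ : ∃ g : BilinIsom (sympBilin 2 F), g = pairT (e 0) (e 1) (bee 0 1) 1 := ⟨_, rfl⟩
    refine ⟨g, mover 1 1, ?_⟩
    set H := Subgroup.closure ({U 1 F, g * U 1 F * g⁻¹, mover 1 1 * U 1 F * (mover 1 1)⁻¹} :
      Set (BilinIsom (sympBilin 2 F)))
    have hU : U 1 F ∈ H := Subgroup.subset_closure (by simp)
    have hgm : g * U 1 F * g⁻¹ ∈ H := Subgroup.subset_closure (by simp)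
    have hW : W 1 (1 : Fˣ) ∈ H := Subgroup.subset_closure (by simp [W])
    have key : g * U 1 F * g⁻¹ = U 1 F * sympT (sympBilin_isAlt 2 F) (e 0) (-2) := by
      rw [U, show lev 1 = aEl 0 * lev 0 from rfl, show (lev 0 : BilinIsom (sympBilin 2 F)) = 1 from rfl, mul_one,
        show g * (sympT (sympBilin_isAlt 2 F) (e 1) 1 * aEl 0) * g⁻¹ =
          (g * sympT (sympBilin_isAlt 2 F) (e 1) 1 * g⁻¹) * (g * aEl 0 * g⁻¹) by group, sympT_conj, aEl,
        pairT_conj']
      refine BilinIsom.ext' fun x => ?_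
      simp only [BilinIsom.mul_apply', pairT_apply, sympT_apply, hgdef]
      simp [bfe_self (show 1 < 2 by omega)]
      module
    rw [key] at hgm
    have h0 : TH H (e 0) (1 : F) := by
      have := (Subgroup.mul_mem_cancel_left _ hU).1 hgm
      rwa [show (-2 : F) = 1 by linear_combination -h3] at this
    refine eq_top_two hU hW (mem_centres.2 fun c => addSubgroup_of_squares (A := tSet H (e 0)) (fun x => ?_) c)
    rcases eq_or_ne x 0 with rfl | hx
    · rw [mul_zero]; exact (tSet _ _).zero_mem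
    · have h := FiniteField.pow_card_sub_one_eq_one x hx
      rw [hq3] at h
      rw [show x * x = 1 by rw [← pow_two]; exact h]
      exact h0
  obtain ⟨g, hg⟩ := htor k
  refine ⟨g, mover 1 1, ?_⟩
  set H := Subgroup.closure ({U 1 F, g * U 1 F * g⁻¹, mover 1 1 * U 1 F * (mover 1 1)⁻¹} :
    Set (BilinIsom (sympBilin 2 F)))
  have hU : U 1 F ∈ H := Subgroup.subset_closure (by simp)
  have hgm : g * U 1 F * g⁻¹ ∈ H := Subgroup.subset_closure (by simp)
  have hW : W 1 (1 : Fˣ) ∈ H := Subgroup.subset_closure (by simp [W])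
  rw [hg] at hgm
  have hne : (k : F) * k - 1 ≠ 0 := by
    intro h0
    have hk2 : k ^ 2 = 1 := Units.ext (by rw [Units.val_pow_eq_pow_val, Units.val_one]; linear_combination h0)
    have h4 : Fintype.card Fˣ ≤ 2 := by
      rw [← orderOf_eq_card_of_forall_mem_zpowers hk |>.trans Nat.card_eq_fintype_card]
      exact orderOf_le_of_pow_eq_one (by norm_num) hk2
    rw [Fintype.card_units] at h4
    omega
  exact eq_top_two hU hW (e_zero_odd hU hW h2 hk hne ((Subgroup.mul_mem_cancel_right _ hU).1 hgm))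

theorem sympEquiv_symm_toLin {l : ℕ} (g : BilinIsom (sympBilin (l + 1) F)) :
    Matrix.toLin' ((((sympEquiv (l + 1) F).symm g : symplecticGroup (Fin (l + 1)) F) :
      Matrix (Fin (l + 1) ⊕ Fin (l + 1)) (Fin (l + 1) ⊕ Fin (l + 1)) F)) = g.1.toLinearMap :=
  LinearMap.ext fun x => by rw [Matrix.toLin'_apply, sympEquiv_symm_mulVec]; rfl

/-- Three conjugates of a regular unipotent element generate the symplectic group. -/
theorem exists_three [Finite F] (n : ℕ) (hn : 2 ≤ n) (h22 : ¬ (n = 2 ∧ Nat.card F = 2)) :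
    ∃ u g h : symplecticGroup (Fin n) F,
      IsNilpotent ((u : Matrix (Fin n ⊕ Fin n) (Fin n ⊕ Fin n) F) - 1) ∧
      ((u : Matrix (Fin n ⊕ Fin n) (Fin n ⊕ Fin n) F) - 1) ^ (2 * n - 1) ≠ 0 ∧
      Subgroup.closure ({u, g * u * g⁻¹, h * u * h⁻¹} : Set (symplecticGroup (Fin n) F)) = ⊤ := by
  obtain ⟨l, rfl⟩ : ∃ l, n = l + 1 := ⟨n - 1, by omega⟩
  obtain ⟨g, h, hc⟩ := exists_three_isom (F := F) (l := l) (by omega) (fun h => h22 ⟨by omega, h.2⟩)
  set φ := (sympEquiv (l + 1) F).symm with hφ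
  have hlin : ∀ r, Matrix.toLin' (((φ (U l F) : Matrix (Fin (l + 1) ⊕ Fin (l + 1)) (Fin (l + 1) ⊕ Fin (l + 1)) F) - 1) ^ r) =
      nil l F ^ r := fun r => by
    rw [Matrix.toLin'_pow, map_sub, Matrix.toLin'_one, hφ, sympEquiv_symm_toLin]; rfl
  refine ⟨φ (U l F), φ g, φ h, ⟨2 * l + 2, ?_⟩, ?_, ?_⟩
  · apply Matrix.toLin'.injective
    rw [hlin, nil_pow_top, map_zero]
  · intro h0
    apply nil_pow_ne (l := l) (F := F)
    rw [← hlin, show 2 * l + 1 = 2 * (l + 1) - 1 by omega, h0, map_zero]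
  · have := congrArg (Subgroup.map φ.toMonoidHom) hc
    rw [MonoidHom.map_closure, Subgroup.map_top_of_surjective _ φ.surjective] at this
    simpa [Set.image_insert_eq, map_mul, map_inv] using this

end Cfsg.Lib.SpThreeUnip
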