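import Cfsg.Agent.Known.SpTwoGen.Main

/-! # Membership calculus for symplectic transvections and their companions -/

set_option autoImplicit false
set_option linter.style.haveILetI false

namespace Cfsg.Lib.SpThreeUnip

open Cfsg.Lib.Classical Cfsg.Lib.SpTwoGen

universe u

variable {F : Type u} [Field F] {m : ℕ}

local notation "V" => (Fin m ⊕ Fin m → F)
local notation "Bs" => sympBilin m F
local notation "hAlt" => sympBilin_isAlt m F

/-- The `i`-th vector of the first half of the standard basis. -/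
def e (i : ℕ) : V := if h : i < m then ev ⟨i, h⟩ else 0

/-- The `i`-th vector of the second half of the standard basis. -/
def f (i : ℕ) : V := if h : i < m then fv ⟨i, h⟩ else 0

theorem ev_eq (i : Fin m) : (ev i : V) = e i.val := by simp [e, i.2]

theorem fv_eq (i : Fin m) : (fv i : V) = f i.val := by simp [f, i.2]

@[simp] theorem bee (i j : ℕ) : Bs (e i) (e j) = 0 := by
  by_cases hj : j < m
  · by_cases hi : i < m
    · simp only [e, hi, hj, dite_true]; rw [bform_ev]; simp [ev]
    · simp [e, hi, hj]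
  · simp [e, hj]

@[simp] theorem bff (i j : ℕ) : Bs (f i) (f j) = 0 := by
  by_cases hj : j < m
  · by_cases hi : i < m
    · simp only [f, hi, hj, dite_true]; rw [bform_fv]; simp [fv]
    · simp [f, hi, hj]
  · simp [f, hj]

@[simp] theorem bfe_ne {i j : ℕ} (h : i ≠ j) : Bs (f i) (e j) = 0 := by
  by_cases hj : j < m
  · by_cases hi : i < m
    · simp [e, f, hi, hj, bform_ev, fv, Fin.ext_iff, Ne.symm h]
    · simp [e, f, hi, hj]
  · simp [e, hj]

@[simp] theorem bfe_self {i : ℕ} (h : i < m) : Bs (f i) (e i) = 1 := by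
  simp [e, f, h, bform_ev, fv]

theorem bswap (x y : V) : Bs y x = -Bs x y := ((hAlt).neg_eq x y).symm

@[simp] theorem bef_ne {i j : ℕ} (h : i ≠ j) : Bs (e i) (f j) = 0 := by
  rw [bswap, bfe_ne h.symm, neg_zero]

@[simp] theorem bef_self {i : ℕ} (h : i < m) : Bs (e i) (f i) = -1 := by rw [bswap, bfe_self h]

@[simp] theorem bself (x : V) : Bs x x = 0 := hAlt x

theorem e_ne {i : ℕ} (h : i < m) : (e i : V) ≠ 0 := fun h0 => by
  simpa [h0] using bfe_self (F := F) h

theorem f_ne {i : ℕ} (h : i < m) : (f i : V) ≠ 0 := fun h0 => by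
  simpa [h0] using bfe_self (F := F) h

theorem swap0 {x y : V} (h : Bs x y = 0) : Bs y x = 0 := by rw [bswap, h, neg_zero]

theorem pairT_comp (x y b : V) (hx : Bs x b = 0) (hy : Bs y b = 0) (hxy : Bs (x + y) b = 0) (c : F) :
    pairT (x + y) b hxy c = pairT x b hx c * pairT y b hy c * sympT hAlt b (c ^ 2 * Bs x y) := by
  refine BilinIsom.ext' fun z => ?_
  rw [BilinIsom.mul_apply', BilinIsom.mul_apply', sympT_apply, pairT_apply, pairT_apply, pairT_apply]
  simp only [map_add, map_smul, LinearMap.add_apply, LinearMap.smul_apply, smul_eq_mul, hx, hy, bself,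
    swap0 hx, swap0 hy, mul_zero, add_zero, zero_add, bswap x y]
  module

theorem pairT_self (b : V) (c : F) : pairT b b (bself b) c = sympT hAlt b (2 * c) :=
  BilinIsom.ext' fun z => by rw [pairT_apply, sympT_apply]; module

theorem sympT_vec_add (x y : V) (h : Bs x y = 0) (c : F) :
    sympT hAlt (x + y) c = sympT hAlt x c * sympT hAlt y c * pairT x y h c := by
  refine BilinIsom.ext' fun z => ?_
  rw [BilinIsom.mul_apply', BilinIsom.mul_apply', sympT_apply, sympT_apply, sympT_apply, pairT_apply]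
  simp only [map_add, map_smul, LinearMap.add_apply, LinearMap.smul_apply, smul_eq_mul, h, bself, swap0 h,
    mul_zero, add_zero, zero_add]
  module

theorem pairT_conj' (g : BilinIsom Bs) (a b : V) (h : Bs a b = 0) (c : F) :
    g * pairT a b h c * g⁻¹ = pairT (g.1 a) (g.1 b) (by rw [BilinIsom.map_form]; exact h) c := by
  refine BilinIsom.ext' fun x => ?_
  rw [BilinIsom.mul_apply', BilinIsom.mul_apply', pairT_apply, pairT_apply]
  simp only [map_add, map_smul, BilinIsom.apply_inv_self]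
  rw [← BilinIsom.map_form g (((g⁻¹ : BilinIsom Bs) : _ ≃ₗ[F] _) x) a,
    ← BilinIsom.map_form g (((g⁻¹ : BilinIsom Bs) : _ ≃ₗ[F] _) x) b, BilinIsom.apply_inv_self]

/-- The element `x ↦ x + c (B(x,a) b + B(x,b) a)` lies in `H`. -/
def PH (H : Subgroup (BilinIsom Bs)) (a b : V) (c : F) : Prop := ∃ h : Bs a b = 0, pairT a b h c ∈ H

/-- The transvection with centre `v` and parameter `c` lies in `H`. -/
def TH (H : Subgroup (BilinIsom Bs)) (v : V) (c : F) : Prop := sympT hAlt v c ∈ H

variable {H : Subgroup (BilinIsom (sympBilin m F))}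

theorem PH.symm {a b : V} {c : F} (h : PH H a b c) : PH H b a c := by
  obtain ⟨h0, h1⟩ := h
  refine ⟨swap0 h0, ?_⟩
  convert h1 using 1
  exact BilinIsom.ext' fun z => by rw [pairT_apply, pairT_apply]; module

theorem PH.conj {a b a' b' : V} {c : F} (h : PH H a b c) {g : BilinIsom Bs} (hg : g ∈ H)
    (ha : g.1 a = a') (hb : g.1 b = b') : PH H a' b' c := by
  obtain ⟨h0, h1⟩ := h
  subst ha hb
  refine ⟨by rw [BilinIsom.map_form]; exact h0, ?_⟩
  rw [← pairT_conj' g a b h0 c]
  exact mul_mem (mul_mem hg h1) (inv_mem hg)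

theorem TH.conj {v v' : V} {c : F} (h : TH H v c) {g : BilinIsom Bs} (hg : g ∈ H)
    (hv : g.1 v = v') : TH H v' c := by
  subst hv
  unfold TH
  rw [← sympT_conj]
  exact mul_mem (mul_mem hg h) (inv_mem hg)

theorem PH.zero {a b : V} (h : Bs a b = 0) : PH H a b 0 := ⟨h, by rw [pairT_zero]; exact one_mem H⟩

theorem PH.add_c {a b : V} {c d : F} (h : PH H a b c) (h' : PH H a b d) : PH H a b (c + d) := by
  obtain ⟨h0, h1⟩ := h
  obtain ⟨_, h2⟩ := h'
  exact ⟨h0, by rw [← pairT_mul]; exact mul_mem h1 h2⟩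

theorem PH.neg_c {a b : V} {c : F} (h : PH H a b c) : PH H a b (-c) :=
  ⟨h.1, by rw [← pairT_inv]; exact inv_mem h.2⟩

theorem TH.zero (v : V) : TH H v 0 := by unfold TH; rw [sympT_zero]; exact one_mem H

theorem TH.add_c {v : V} {c d : F} (h : TH H v c) (h' : TH H v d) : TH H v (c + d) := by
  unfold TH; rw [sympT_add]; exact mul_mem h h'

theorem TH.neg_c {v : V} {c : F} (h : TH H v c) : TH H v (-c) := by
  unfold TH; rw [sympT_neg]; exact inv_mem h

theorem TH.smul {v : V} {a c : F} : TH H (a • v) c ↔ TH H v (a ^ 2 * c) := by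
  unfold TH; rw [sympT_smul]

theorem PH.smul {a b : V} {k c : F} (h : PH H a b (k * c)) : PH H (k • a) b c := by
  obtain ⟨h0, h1⟩ := h
  refine ⟨by rw [map_smul, LinearMap.smul_apply, h0, smul_zero], ?_⟩
  convert h1 using 1
  exact BilinIsom.ext' fun z => by
    rw [pairT_apply, pairT_apply, map_smul, smul_eq_mul]; module

theorem PH.self_iff {b : V} {c : F} : PH H b b c ↔ TH H b (2 * c) := by
  constructor
  · rintro ⟨_, h⟩; unfold TH; rw [← pairT_self]; exact h
  · exact fun h => ⟨bself b, by rw [pairT_self]; exact h⟩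

theorem PH.add {x y b : V} {c : F} (hx : PH H x b c) (hy : PH H y b c) (ht : TH H b (c ^ 2 * Bs x y)) :
    PH H (x + y) b c := by
  obtain ⟨x0, x1⟩ := hx
  obtain ⟨y0, y1⟩ := hy
  have h0 : Bs (x + y) b = 0 := by rw [map_add, LinearMap.add_apply, x0, y0, add_zero]
  exact ⟨h0, by rw [pairT_comp x y b x0 y0 h0]; exact mul_mem (mul_mem x1 y1) ht⟩

theorem PH.add0 {x y b : V} {c : F} (hx : PH H x b c) (hy : PH H y b c) (h : Bs x y = 0) :
    PH H (x + y) b c := hx.add hy (by rw [h, mul_zero]; exact TH.zero b)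

theorem PH.cancel {x y b : V} {c : F} (hxy : PH H (x + y) b c) (hx : PH H x b c)
    (ht : TH H b (c ^ 2 * Bs x y)) : PH H y b c := by
  obtain ⟨h0, h1⟩ := hxy
  obtain ⟨x0, x1⟩ := hx
  have y0 : Bs y b = 0 := by rwa [map_add, LinearMap.add_apply, x0, zero_add] at h0
  refine ⟨y0, ?_⟩
  rw [pairT_comp x y b x0 y0 h0] at h1
  exact (Subgroup.mul_mem_cancel_left _ x1).1 ((Subgroup.mul_mem_cancel_right _ ht).1 h1)

theorem PH.cancel0 {x y b : V} {c : F} (hxy : PH H (x + y) b c) (hx : PH H x b c) (h : Bs x y = 0) :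
    PH H y b c := hxy.cancel hx (by rw [h, mul_zero]; exact TH.zero b)

theorem TH.expand {x y : V} {c : F} (h : Bs x y = 0) (hx : TH H x c) (hy : TH H y c) (hp : PH H x y c) :
    TH H (x + y) c := by
  unfold TH; rw [sympT_vec_add x y h]; exact mul_mem (mul_mem hx hy) hp.2

theorem TH.pair {x y : V} {c : F} (h : Bs x y = 0) (hxy : TH H (x + y) c) (hx : TH H x c) (hy : TH H y c) :
    PH H x y c := by
  unfold TH at hxy; rw [sympT_vec_add x y h] at hxy
  exact ⟨h, (Subgroup.mul_mem_cancel_left _ (mul_mem hx hy)).1 hxy⟩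

theorem TH.snd {x y : V} {c : F} (h : Bs x y = 0) (hxy : TH H (x + y) c) (hx : TH H x c) (hp : PH H x y c) :
    TH H y c := by
  unfold TH at hxy; rw [sympT_vec_add x y h] at hxy
  exact (Subgroup.mul_mem_cancel_left _ hx).1 ((Subgroup.mul_mem_cancel_right _ hp.2).1 hxy)

theorem mem_centres {v : V} : v ∈ transCentres hAlt H ↔ ∀ c, TH H v c := Iff.rfl

/-- The parameters of a transvection centre in `H`. -/
def tSet (H : Subgroup (BilinIsom Bs)) (v : V) : AddSubgroup F where
  carrier := {c | TH H v c}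
  add_mem' := TH.add_c
  zero_mem' := TH.zero v
  neg_mem' := TH.neg_c

end Cfsg.Lib.SpThreeUnip
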