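import Cfsg.Agent.Known.SpThreeUnip.Big

/-! # Generation in rank two -/

set_option autoImplicit false
set_option linter.style.haveILetI false

namespace Cfsg.Lib.SpThreeUnip

open Cfsg.Lib.Classical Cfsg.Lib.SpTwoGen

universe u

variable {F : Type u} [Field F] {H : Subgroup (BilinIsom (sympBilin 2 F))}

local notation "hA2" => sympBilin_isAlt 2 F

theorem PH.of_smul {a b : Fin 2 ⊕ Fin 2 → F} {k c : F} (h : PH H (k • a) b c) (h0 : sympBilin 2 F a b = 0) :
    PH H a b (k * c) := by
  obtain ⟨q0, q1⟩ := h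
  refine ⟨h0, ?_⟩
  convert q1 using 1
  exact BilinIsom.ext' fun z => by rw [pairT_apply, pairT_apply, map_smul, smul_eq_mul]; module

theorem half_mem [Finite F] (h2 : (2 : F) ≠ 0) (A : AddSubgroup F) {c : F} (h : 2 * c ∈ A) : c ∈ A := by
  have hs : Function.Surjective fun x : A => (⟨2 * x.1, by rw [two_mul]; exact add_mem x.2 x.2⟩ : A) :=
    Finite.surjective_of_injective fun x y e => Subtype.ext (mul_left_cancel₀ h2 (congrArg Subtype.val e))
  obtain ⟨x, hx⟩ := hs ⟨_, h⟩
  rw [← mul_left_cancel₀ h2 (congrArg Subtype.val hx)]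
  exact x.2

/-- The product of a transvection with centre `e 0` and a short root element. -/
noncomputable def Ye (z : F) : BilinIsom (sympBilin 2 F) := sympT hA2 (e 0) z * pairT (e 0) (e 1) (bee 0 1) z

/-- The product of a transvection with centre `e 1` and a short root element. -/
noncomputable def We (k z : F) : BilinIsom (sympBilin 2 F) :=
  sympT hA2 (e 1) (k * k * z) * pairT (e 0) (e 1) (bee 0 1) (k * z)

theorem Ye_add (a b : F) : Ye (a + b) = Ye a * Ye b := by
  refine BilinIsom.ext' fun x => ?_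
  simp only [Ye, BilinIsom.mul_apply', pairT_apply, sympT_apply]
  simp
  module

theorem We_add (k a b : F) : We k (a + b) = We k a * We k b := by
  refine BilinIsom.ext' fun x => ?_
  simp only [We, BilinIsom.mul_apply', pairT_apply, sympT_apply]
  simp
  module

theorem Ye_zero : Ye (0 : F) = 1 := by rw [Ye, sympT_zero, pairT_zero, one_mul]

/-- The parameters `z` with `Ye z ∈ H`. -/
noncomputable def ySet (H : Subgroup (BilinIsom (sympBilin 2 F))) : AddSubgroup F where
  carrier := {z | Ye z ∈ H}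
  add_mem' := fun {a b} ha hb => by show Ye (a + b) ∈ H; rw [Ye_add]; exact mul_mem ha hb
  zero_mem' := by show Ye (0 : F) ∈ H; rw [Ye_zero]; exact one_mem H
  neg_mem' := fun {a} ha => by
    show Ye (-a) ∈ H
    have e : Ye (-a) * Ye a = 1 := by rw [← Ye_add, neg_add_cancel, Ye_zero]
    rw [eq_inv_of_mul_eq_one_left e]; exact inv_mem ha

variable (hU : U 1 F ∈ H) {γ : Fˣ} (hW : W 1 γ ∈ H)

include hU in
theorem Ye_mem {c : F} (h : TH H (e 1) c) : Ye c ∈ H := by
  have h1 : TH H (e 1 + e 0) c := h.conj hU (U_e_succ (i := 0) (by omega))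
  unfold TH at h1 h
  have key : sympT hA2 (e 1 + e 0) c = sympT hA2 (e 1) c * Ye c := by
    refine BilinIsom.ext' fun x => ?_
    simp only [Ye, BilinIsom.mul_apply', pairT_apply, sympT_apply]
    simp
    module
  rw [key] at h1
  exact (Subgroup.mul_mem_cancel_left _ h).1 h1

include hU hW in
/-- Full transvections with centre `e 0` suffice. -/
theorem eq_top_two (h0 : e 0 ∈ transCentres hA2 H) : H = ⊤ := by
  have ha : e 0 - f 0 ∈ transCentres hA2 H := by
    have := transCentres_map h0 hW
    rwa [W_e_zero γ (by omega)] at this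
  have hf0 : f 0 ∈ transCentres hA2 H := by
    have := transCentres_span h0 ha (by simp [bef_self (show 0 < 2 by omega)]) 1 (-1)
    simpa using this
  have hy : ∀ r : F, -f 0 + r • e 0 ∈ transCentres hA2 H := fun r => by
    have := transCentres_span hf0 h0 (by simp [bfe_self (show 0 < 2 by omega)]) (-1) r
    simpa using this
  have he1 : e 1 ∈ transCentres hA2 H := by
    have hx := transCentres_map hf0 hW
    rw [W_f_zero_two] at hx
    have h1 := transCentres_add hx (hy γ) (by
      simp [bfe_self (show 0 < 2 by omega), bef_ne (show (1 : ℕ) ≠ 0 by omega)])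
    have e1 : f 0 + (γ : F) • e 1 + (-f 0 + (γ : F) • e 0) = (U 1 F).1 ((γ : F) • e 1) := by
      rw [map_smul, U_e_succ (i := 0) (by omega), smul_add]; abel
    rw [e1] at h1
    have h2 := transCentres_smul (transCentres_map h1 (inv_mem hU)) (γ : F)⁻¹
    rwa [BilinIsom.inv_apply_self, smul_smul, inv_mul_cancel₀ γ.ne_zero, one_smul] at h2
  have hf1 : f 1 ∈ transCentres hA2 H := by
    have hx := transCentres_map hf0 hU
    have e1 : (U 1 F).1 (f 0) = f 0 - f 1 - e 1 := by
      have := U_f (F := F) (i := 0) (show 0 < 1 by omega)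
      rw [map_add, U_f_last] at this
      rw [eq_sub_of_add_eq this]; abel
    rw [e1] at hx
    have h1 := transCentres_add hx (hy 1) (by
      simp [bfe_self (show 0 < 2 by omega), bef_ne (show (1 : ℕ) ≠ 0 by omega),
        bfe_ne (show (1 : ℕ) ≠ 0 by omega)])
    have h2 := transCentres_add h1 he1 (by
      simp [bfe_self (show 1 < 2 by omega), bfe_ne (show (0 : ℕ) ≠ 1 by omega)])
    have hP : PH H (e 0) (e 1) (1 : F) := TH.pair (bee _ _)
      (by
        have := mem_centres.1 (transCentres_map he1 hU) 1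
        rwa [U_e_succ (i := 0) (by omega), add_comm] at this)
      (mem_centres.1 h0 1) (mem_centres.1 he1 1)
    rw [show f 0 - f 1 - e 1 + (-f 0 + (1 : F) • e 0) + e 1 = -f 1 + e 0 by rw [one_smul]; abel] at h2
    have h3 := transCentres_smul (transCentres_map h2 hP.2) (-1 : F)
    rw [pairT_apply] at h3
    simpa [bfe_self (show 1 < 2 by omega), bfe_ne (show (1 : ℕ) ≠ 0 by omega),
      bfe_ne (show (0 : ℕ) ≠ 1 by omega)] using h3
  refine eq_top_of_links (fun i => ?_) (fun i => ?_) fun i hi => ?_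
  · rw [ev_eq]; rcases (show i.val = 0 ∨ i.val = 1 by omega) with h | h <;> rw [h] <;> assumption
  · rw [fv_eq]; rcases (show i.val = 0 ∨ i.val = 1 by omega) with h | h <;> rw [h] <;> assumption
  · have hi' : 0 < i.val := by simpa using hi
    refine ⟨ev 0, plane_le_below (i := (0 : Fin 2)) hi' (ev_mem_plane _), ev i, ev_mem_plane i, ?_, ?_, ?_⟩
    · rw [ev_eq]; exact e_ne (by simp)
    · rw [ev_eq]; exact e_ne i.2
    · have := transCentres_map he1 hU
      rw [U_e_succ (i := 0) (by omega), add_comm] at this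
      simpa [ev_eq, show i.val = 1 by omega] using this

include hU in
theorem short_mem_odd [Finite F] (h2 : (2 : F) ≠ 0) {c : F} (h : TH H (e 1) c) :
    TH H (e 0) c ∧ PH H (e 0) (e 1) c := by
  have hY := Ye_mem hU h
  have key : U 1 F * Ye c * (U 1 F)⁻¹ = Ye c * sympT hA2 (e 0) (2 * c) := by
    rw [Ye, show U 1 F * (sympT hA2 (e 0) c * pairT (e 0) (e 1) (bee 0 1) c) * (U 1 F)⁻¹ =
      (U 1 F * sympT hA2 (e 0) c * (U 1 F)⁻¹) * (U 1 F * pairT (e 0) (e 1) (bee 0 1) c * (U 1 F)⁻¹) by group,
      sympT_conj, pairT_conj']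
    refine BilinIsom.ext' fun x => ?_
    simp only [BilinIsom.mul_apply', pairT_apply, sympT_apply, U_e_zero,
      U_e_succ (F := F) (i := 0) (show 0 < 1 by omega)]
    simp
    module
  have h0 : TH H (e 0) c := half_mem h2 (tSet H (e 0))
    ((Subgroup.mul_mem_cancel_left _ hY).1 (key ▸ mul_mem (mul_mem hU hY) (inv_mem hU)))
  exact ⟨h0, _, (Subgroup.mul_mem_cancel_left _ h0).1 hY⟩

include hU hW in
theorem e_zero_odd [Finite F] (h2 : (2 : F) ≠ 0) {k : Fˣ} (hk : ∀ x : Fˣ, x ∈ Subgroup.zpowers k)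
    (hne : (k : F) * k - 1 ≠ 0) (h : TH H (e 1) ((k : F) * k - 1)) : e 0 ∈ transCentres hA2 H := by
  set c0 := (k : F) * k - 1 with hc0
  have hmul : ∀ c d : F, TH H (e 1) c → TH H (e 1) d → TH H (e 1) (2 * (c * d)) := by
    intro c d hc hd
    obtain ⟨q0, q1⟩ := (short_mem_odd hU h2 hc).2.conj hW (W_e_zero γ (by omega)) (W_e_one γ (by omega))
    have hp := (short_mem_odd hU h2 hd).2
    have h1 : PH H (e 0 + c • e 1) (e 1) d := hp.conj q1
      (by rw [pairT_apply]; simp [bef_self (show 0 < 2 by omega)])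
      (by rw [pairT_apply]; simp [bef_ne (show (1 : ℕ) ≠ 0 by omega)])
    exact PH.self_iff.1 (PH.of_smul (h1.cancel0 hp (by simp)) (bself _))
  let A : AddSubgroup F := (tSet H (e 1)).comap (AddMonoidHom.mulLeft c0)
  have hA : ∀ x, x ∈ A ↔ TH H (e 1) (c0 * x) := fun _ => Iff.rfl
  have hA' : A = ⊤ := addSubgroup_eq_top hk fun j => by
    induction j with
    | zero => rw [hA]; simpa using h
    | succ j ih =>
      refine half_mem h2 A ?_
      have h1 : 2 * c0 * (k : F) ^ (2 * j) ∈ A := by
        rw [hA, show c0 * (2 * c0 * (k : F) ^ (2 * j)) = 2 * (c0 * (c0 * (k : F) ^ (2 * j))) by ring]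
        exact hmul _ _ h ((hA _).1 ih)
      have := add_mem h1 (add_mem ih ih)
      convert this using 1
      rw [hc0]; ring
  refine mem_centres.2 fun c => (short_mem_odd hU h2 ?_).1
  have := (hA (c / c0)).1 (hA' ▸ AddSubgroup.mem_top _)
  rwa [mul_div_cancel₀ _ hne] at this

include hU hW in
theorem e_zero_even [Finite F] (h2 : (2 : F) = 0) {k : Fˣ} (hk : ∀ x : Fˣ, x ∈ Subgroup.zpowers k)
    (hγ : γ = k) (hk1 : (k : F) ≠ 1) (h : TH H (e 1) (k : F)) : e 0 ∈ transCentres hA2 H := by
  subst hγ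
  set κ := (γ : F) with hκ
  have hne : κ ≠ 0 := γ.ne_zero
  have hneg : ∀ v : Fin 2 ⊕ Fin 2 → F, -v = v := fun v => by
    rw [neg_eq_iff_add_eq_zero, ← two_smul F v, h2, zero_smul]
  have hw2 : (W 1 γ * W 1 γ).1 (e 0) = e 0 + κ • e 1 := by
    rw [BilinIsom.mul_apply', W_e_zero γ (by omega), map_sub, W_e_zero γ (by omega), W_f_zero_two,
      sub_eq_add_neg, sub_eq_add_neg, hneg, hneg, ← hκ, add_assoc, ← add_assoc (f 0) (f 0), ← two_smul F (f 0),
      h2, zero_smul, zero_add]
  have hw1 : (W 1 γ * W 1 γ).1 (e 1) = e 1 := by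
    rw [BilinIsom.mul_apply', W_e_one γ (by omega), W_e_one γ (by omega)]
  have hWW : W 1 γ * W 1 γ ∈ H := mul_mem hW hW
  have hYW : ∀ z, Ye z ∈ H → We κ z ∈ H := by
    intro z hz
    have key : (W 1 γ * W 1 γ) * Ye z * (W 1 γ * W 1 γ)⁻¹ = Ye z * We κ z * sympT hA2 (e 1) (2 * (κ * z)) := by
      rw [Ye, show (W 1 γ * W 1 γ) * (sympT hA2 (e 0) z * pairT (e 0) (e 1) (bee 0 1) z) * (W 1 γ * W 1 γ)⁻¹ =
        ((W 1 γ * W 1 γ) * sympT hA2 (e 0) z * (W 1 γ * W 1 γ)⁻¹) *
          ((W 1 γ * W 1 γ) * pairT (e 0) (e 1) (bee 0 1) z * (W 1 γ * W 1 γ)⁻¹) by group,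
        sympT_conj, pairT_conj', We]
      refine BilinIsom.ext' fun x => ?_
      rw [BilinIsom.mul_apply' (sympT _ ((W 1 γ * W 1 γ).1 (e 0)) z)]
      simp only [pairT_apply, sympT_apply, hw2, hw1]
      simp only [BilinIsom.mul_apply', pairT_apply, sympT_apply]
      simp
      module
    have h1 := mul_mem (mul_mem hWW hz) (inv_mem hWW)
    rw [key, h2, zero_mul, sympT_zero, mul_one] at h1
    exact (Subgroup.mul_mem_cancel_left _ hz).1 h1
  have hWY : ∀ z, We κ z ∈ H → Ye (κ * κ * z) ∈ H := by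
    intro z hz
    have key : U 1 F * We κ z * (U 1 F)⁻¹ = We κ z * Ye (κ * κ * z) * sympT hA2 (e 0) (2 * (κ * z)) := by
      rw [We, show U 1 F * (sympT hA2 (e 1) (κ * κ * z) * pairT (e 0) (e 1) (bee 0 1) (κ * z)) * (U 1 F)⁻¹ =
        (U 1 F * sympT hA2 (e 1) (κ * κ * z) * (U 1 F)⁻¹) *
          (U 1 F * pairT (e 0) (e 1) (bee 0 1) (κ * z) * (U 1 F)⁻¹) by group, sympT_conj, pairT_conj', Ye]
      refine BilinIsom.ext' fun x => ?_
      simp only [BilinIsom.mul_apply', pairT_apply, sympT_apply, U_e_zero,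
        U_e_succ (F := F) (i := 0) (show 0 < 1 by omega)]
      simp
      module
    have h1 := mul_mem (mul_mem hU hz) (inv_mem hU)
    rw [key, h2, zero_mul, sympT_zero, mul_one] at h1
    exact (Subgroup.mul_mem_cancel_left _ hz).1 h1
  -- all `Ye z` and `We z`
  have hY : ∀ z, Ye z ∈ H := by
    let A : AddSubgroup F := (ySet H).comap (AddMonoidHom.mulLeft κ)
    have hA : ∀ x, x ∈ A ↔ Ye (κ * x) ∈ H := fun _ => Iff.rfl
    have hA' : A = ⊤ := addSubgroup_eq_top hk fun j => by
      induction j with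
      | zero => rw [hA]; simpa using Ye_mem hU h
      | succ j ih =>
        rw [hA]
        convert hWY _ (hYW _ ((hA _).1 ih)) using 2
        rw [hκ]; ring
    intro z
    have := (hA (z / κ)).1 (hA' ▸ AddSubgroup.mem_top _)
    rwa [mul_div_cancel₀ _ hne] at this
  have hWe : ∀ z, We κ z ∈ H := fun z => hYW z (hY z)
  have hP : ∀ y, TH H (e 1) (κ * y) → TH H (e 0) y := by
    intro y hy
    have h1 := hWe (y / κ)
    rw [We, mul_assoc, mul_div_cancel₀ _ hne] at h1
    exact (Subgroup.mul_mem_cancel_right _ ((Subgroup.mul_mem_cancel_left _ hy).1 h1)).1 (hY y)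
  let X : AddSubgroup F := (tSet H (e 1)).comap (AddMonoidHom.mulLeft κ)
  have hX : ∀ y, y ∈ X ↔ TH H (e 1) (κ * y) := fun _ => Iff.rfl
  have hstep : ∀ x y, y ∈ X → (x * x / κ + x) * y ∈ X := by
    intro x y hy
    obtain ⟨g, hg⟩ : ∃ g : BilinIsom (sympBilin 2 F), g = W 1 γ * We κ (x / κ) * (W 1 γ)⁻¹ := ⟨_, rfl⟩
    have hgH : g ∈ H := hg ▸ mul_mem (mul_mem hW (hWe _)) (inv_mem hW)
    have hg0 : g.1 (e 0) = e 0 + x • e 1 := by
      rw [hg, We, show W 1 γ * (sympT hA2 (e 1) (κ * κ * (x / κ)) * pairT (e 0) (e 1) (bee 0 1) (κ * (x / κ))) *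
          (W 1 γ)⁻¹ = (W 1 γ * sympT hA2 (e 1) (κ * κ * (x / κ)) * (W 1 γ)⁻¹) *
            (W 1 γ * pairT (e 0) (e 1) (bee 0 1) (κ * (x / κ)) * (W 1 γ)⁻¹) by group, sympT_conj, pairT_conj',
        mul_div_cancel₀ _ hne, BilinIsom.mul_apply', pairT_apply, sympT_apply]
      rw [W_e_zero γ (show 0 < 1 by omega), W_e_one γ (show 0 < 1 by omega)]
      have b00 : sympBilin 2 F (e 0) (e 0 - f 0) = 1 := by simp [bef_self (show 0 < 2 by omega)]
      have b01 : sympBilin 2 F (e 0) (e 1) = 0 := bee 0 1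
      simp only [b00, b01, map_add, map_smul, LinearMap.add_apply, LinearMap.smul_apply, smul_eq_mul]
      simp
    have hy0 : TH H (e 0) y := hP y ((hX y).1 hy)
    have h1 : TH H (e 0 + x • e 1) y := TH.conj (v := e 0) (v' := e 0 + x • e 1) hy0 hgH hg0
    have key : sympT hA2 (e 0 + x • e 1) y = sympT hA2 (e 0) y * sympT hA2 (e 1) (x * x * y - κ * (x * y)) *
        We κ (x * y / κ) := by
      rw [We, mul_assoc κ κ, mul_div_cancel₀ _ hne]
      refine BilinIsom.ext' fun z => ?_
      simp only [BilinIsom.mul_apply', pairT_apply, sympT_apply]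
      simp
      module
    unfold TH at h1
    rw [key] at h1
    have h2' : TH H (e 1) (x * x * y - κ * (x * y)) :=
      (Subgroup.mul_mem_cancel_left _ (hP y ((hX y).1 hy))).1 ((Subgroup.mul_mem_cancel_right _ (hWe _)).1 h1)
    rw [hX]
    convert h2' using 1
    field_simp
    linear_combination (κ * x * y) * h2
  have h1X : (1 : F) ∈ X := by rw [hX, mul_one]; exact h
  let M : Subring F :=
    { carrier := {m | ∀ y ∈ X, m * y ∈ X}
      mul_mem' := fun {a b} ha hb y hy => by rw [mul_assoc]; exact ha _ (hb y hy)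
      one_mem' := fun y hy => by rwa [one_mul]
      add_mem' := fun {a b} ha hb y hy => by rw [add_mul]; exact add_mem (ha y hy) (hb y hy)
      zero_mem' := fun y _ => by rw [zero_mul]; exact X.zero_mem
      neg_mem' := fun {a} ha y hy => by rw [neg_mul]; exact X.neg_mem (ha y hy) }
  have hm : ∀ x, x * x / κ + x ∈ M := hstep
  suffices hM : ∀ m, m ∈ M by
    refine mem_centres.2 fun c => hP c ?_
    rw [← hX, ← mul_one c]
    exact hM c 1 h1X
  by_contra hnot
  have := Fintype.ofFinite F
  classical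
  let K : Subfield F :=
    { M with
      inv_mem' := fun a ha => by
        rcases eq_or_ne a 0 with rfl | h0
        · rw [inv_zero]; exact M.zero_mem
        · have : a⁻¹ = a ^ (Fintype.card F - 2) := by
            refine inv_eq_of_mul_eq_one_right ?_
            rw [← pow_succ', show Fintype.card F - 2 + 1 = Fintype.card F - 1 by
              have := Fintype.one_lt_card (α := F); omega, FiniteField.pow_card_sub_one_eq_one a h0]
          rw [this]; exact M.pow_mem ha _ }
  have hK : ∀ a, a ∈ K ↔ a ∈ M := fun _ => Iff.rfl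
  have hd : 2 ≤ Module.finrank K F := by
    by_contra hd
    have h1' : Module.finrank K F = 1 := by
      have := Module.finrank_pos (R := K) (M := F); omega
    apply hnot
    intro m
    obtain ⟨c, hc⟩ := (finrank_eq_one_iff_of_nonzero' (1 : F) one_ne_zero).1 h1' m
    rw [← hc, Subfield.smul_def, smul_eq_mul, mul_one]
    exact c.2
  have hcard := Module.card_eq_pow_finrank (K := K) (V := F)
  -- the map `x ↦ x²/κ + x` has fibres of size at most two
  have hle : Fintype.card F ≤ 2 * Fintype.card K := by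
    have := Finset.card_le_mul_card_image (s := (Finset.univ : Finset F))
      (f := fun x => (⟨x * x / κ + x, hm x⟩ : K)) 2 (fun m _ => by
        by_contra hc
        push Not at hc
        obtain ⟨a, ha, b, hb, c, hc', hab, hac, hbc⟩ := Finset.two_lt_card.1 hc
        simp only [Finset.mem_filter, Finset.mem_univ, true_and, Subtype.ext_iff] at ha hb hc'
        have e1 : a + b + κ = 0 := by
          have := ha.trans hb.symm
          field_simp at this
          refine (mul_eq_zero.1 (show (a - b) * (a + b + κ) = 0 by linear_combination this)).resolve_left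
            (sub_ne_zero.2 hab)
        have e2 : a + c + κ = 0 := by
          have := ha.trans hc'.symm
          field_simp at this
          refine (mul_eq_zero.1 (show (a - c) * (a + c + κ) = 0 by linear_combination this)).resolve_left
            (sub_ne_zero.2 hac)
        exact hbc (by linear_combination e1 - e2))
    calc Fintype.card F ≤ 2 * (Finset.univ.image fun x : F => (⟨x * x / κ + x, hm x⟩ : K)).card := this
      _ ≤ 2 * Fintype.card K := Nat.mul_le_mul_left 2 (Finset.card_le_univ _)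
  have hK2 : 2 ≤ Fintype.card K := Fintype.one_lt_card
  have hsq : Fintype.card K * Fintype.card K ≤ Fintype.card F := by
    rw [hcard, ← pow_two]; exact Nat.pow_le_pow_right (by omega) hd
  have hKc : Fintype.card K = 2 := by nlinarith
  have hF4 : Fintype.card F = 4 := by
    have : 4 ≤ Fintype.card F := by rw [hKc] at hsq; omega
    rw [hKc] at hle; omega
  have hk3 : κ * κ + κ + 1 = 0 := by
    have h3 := FiniteField.pow_card_sub_one_eq_one κ hne
    rw [hF4] at h3
    exact (mul_eq_zero.1 (show (κ - 1) * (κ * κ + κ + 1) = 0 by linear_combination h3)).resolve_left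
      (sub_ne_zero.2 hk1)
  have hκK : κ ∈ K := by
    have := hm (κ * κ)
    rw [hK]
    convert this using 1
    field_simp
    linear_combination -hk3 + h2
  have : ({(⟨0, K.zero_mem⟩ : K), (⟨1, K.one_mem⟩ : K), (⟨κ, hκK⟩ : K)} : Finset K).card = 3 := by
    rw [Finset.card_insert_of_notMem, Finset.card_insert_of_notMem, Finset.card_singleton] <;>
      simp [Subtype.ext_iff, hne.symm, Ne.symm hk1]
  have := this ▸ Finset.card_le_univ ({(⟨0, K.zero_mem⟩ : K), (⟨1, K.one_mem⟩ : K), (⟨κ, hκK⟩ : K)} : Finset K)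
  omega

end Cfsg.Lib.SpThreeUnip
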